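import Cfsg.Agent.ChevalleyStructure.Irreducible
import Cfsg.Agent.ChevalleyStructure.ConjSimpleAll
import Cfsg.Agent.ChevalleyStructure.NPerm
import Cfsg.Agent.S1025
import Cfsg.Agent.S1034
import Cfsg.Agent.S1033
import Cfsg.Agent.H378.SmallTor_m3
import Cfsg.Agent.H129.TorusChar
import Cfsg.Agent.ChevFast.E8
import Cfsg.Agent.FastGrp
import Cfsg.Agent.Prune
set_option linter.all false

-- part: H992/E8X/Root
section
prune_inst 0x7f00000000000000000000000000000000000000000000000000000000000000000000000000000000000000000000000000000000000000000000000000000000000000000000000000000000000000003fffffffffffffffffffffffffffbeffbdffffffff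
set_option linter.all false
open scoped Cfsg.Agent.FastGrp

/-!
# Root elements of `E₈(k)` and the action of words in the `n_i` with explicit signs (helper992)
-/

set_option autoImplicit false

namespace Cfsg.Agent.H992.E8X

open Cfsg Cfsg.Lie Cfsg.Agent.ChevalleyStructure Cfsg.Agent.ChevalleyStructure.Elts
open Cfsg.Agent.ChevalleyStructure.NSimple (eta)
open scoped commutatorElement

universe u

theorem hE8 : InList chevE8 := by simp

section
variable {k : Type u} [Field k]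

theorem word_nil {D : ChevalleyDatum} (hD : InList D) {r s : ℕ} (h : D.commTerms r s = []) (t u : k) :
    wordG hD (D.commWord k r s t u) = 1 := by
  show (List.map _ (List.map _ (D.commTerms r s))).prod = 1
  rw [h]
  rfl

theorem word_one {D : ChevalleyDatum} (hD : InList D) {r s q : ℕ} {c : ℤ} (h : D.commTerms r s = [(q, c, 1, 1)])
    (t u : k) : wordG hD (D.commWord k r s t u) = xG hD q (-(c : k) * (u * t)) := by
  show (List.map _ (List.map _ (D.commTerms r s))).prod = _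
  rw [h]
  show xG hD q ((c : k) * (-t) ^ 1 * u ^ 1) * 1 = _
  rw [mul_one, pow_one, pow_one]
  congr 1
  ring

/-- root elements in the Chevalley group -/
def X (r : ℕ) (t : k) : ↥(chevE8.group k) := ⟨xG hE8 r t, xG_mem_group hE8 r t⟩

theorem coe_X (r : ℕ) (t : k) : (X r t : GL chevE8.Idx k) = xG hE8 r t := rfl

theorem X_add (r : ℕ) (t u : k) : X r t * X r u = X r (t + u) := Subtype.ext (xG_add hE8 r t u)

theorem X_zero (r : ℕ) : X r (0 : k) = 1 := by
  have := X_add (k := k) r 0 0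
  rw [add_zero] at this
  exact mul_eq_left.1 this

theorem X_neg (r : ℕ) (t : k) : X r (-t) = (X r t)⁻¹ := by
  rw [eq_inv_iff_mul_eq_one, X_add, neg_add_cancel, X_zero]

theorem X_eq_one {r : ℕ} (hr : r < 240) {t : k} (h : X r t = 1) : t = 0 :=
  (xG_eq_one_iff hE8 hr t).1 (congrArg Subtype.val h)

theorem X_comm_word {r s : ℕ} (hr : r < 240) (hs : s < 240) (h1 : s ≠ r) (h2 : s ≠ chevE8.neg r) (t u : k) :
    xG hE8 s u * xG hE8 r t = xG hE8 r t * xG hE8 s u * wordG hE8 (chevE8.commWord k r s t u) :=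
  Units.ext (by
    rw [Units.val_mul, Units.val_mul, Units.val_mul, coe_wordG]
    exact Cfsg.Agent.S1025.result chevE8 hE8 r s hr hs h1 h2 t u)

/-- the table condition for commuting root elements -/
def Cm (r s : ℕ) : Bool := (s == r) || (s != chevE8.neg r && chevE8.commTerms r s == [])

theorem X_commute {r s : ℕ} (hr : r < 240) (hs : s < 240) (h : Cm r s = true) (t u : k) :
    Commute (X s u) (X r t) := by
  apply Subtype.ext
  show xG hE8 s u * xG hE8 r t = xG hE8 r t * xG hE8 s u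
  by_cases h1 : s = r
  · subst h1
    rw [xG_add, xG_add, add_comm]
  · have h' : s ≠ chevE8.neg r ∧ chevE8.commTerms r s = [] := by simpa [Cm, h1] using h
    rw [X_comm_word hr hs h1 h'.1, word_nil hE8 h'.2, mul_one]

/-- the table condition for a commutator -/
def Br (r s q : ℕ) (c : ℤ) : Bool :=
  s != r && s != chevE8.neg r && chevE8.commTerms r s == [(q, c, 1, 1)] && Cm q s && Cm q r

theorem br_group {G : Type*} [Group G] {g h W : G} (h1 : g * h = h * g * W) (h2 : g * W = W * g) (h3 : h * W = W * h) :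
    ⁅g, h⁆ = W := by
  rw [commutatorElement_def, h1, mul_assoc (h * g) W, mul_assoc h g, ← mul_assoc g W, h2]
  rw [show h * (W * g * g⁻¹) * h⁻¹ = h * W * h⁻¹ by group, h3]
  group

theorem X_br {r s q : ℕ} {c : ℤ} (hr : r < 240) (hs : s < 240) (hq : q < 240) (h : Br r s q c = true) (t u : k) :
    ⁅X s u, X r t⁆ = X q (-(c : k) * (u * t)) := by
  have h' : ((((s ≠ r ∧ s ≠ chevE8.neg r) ∧ chevE8.commTerms r s = [(q, c, 1, 1)]) ∧ Cm q s = true) ∧
      Cm q r = true) := by simpa [Br] using h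
  obtain ⟨⟨⟨⟨h1, h2⟩, h3⟩, h4⟩, h5⟩ := h'
  apply br_group
  · apply Subtype.ext
    show xG hE8 s u * xG hE8 r t = xG hE8 r t * xG hE8 s u * xG hE8 q (-(c : k) * (u * t))
    rw [X_comm_word hr hs h1 h2, word_one hE8 h3]
  · exact (X_commute hq hs h4 _ _)
  · exact (X_commute hq hr h5 _ _)

/-- the action of a word on the roots, with the sign -/
def act : List ℕ → ℕ → ℕ × ℤ
  | [], r => (r, 1)
  | i :: l, r => (chevE8.reflectRoot i (act l r).1, eta chevE8 i (act l r).1 * (act l r).2)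

/-- the product of fundamental reflections -/
noncomputable def nW (k : Type u) [Field k] (l : List ℕ) : ↥(chevE8.group k) :=
  (l.map fun i => (⟨nG hE8 (chevE8.simple i) 1, nG_mem_group hE8 _ _⟩ : ↥(chevE8.group k))).prod

theorem nG_X {i s : ℕ} (hi : i < 8) (hs : s < 240) (t : k) :
    (⟨nG hE8 (chevE8.simple i) 1, nG_mem_group hE8 _ _⟩ : ↥(chevE8.group k)) * X s t *
      (⟨nG hE8 (chevE8.simple i) 1, nG_mem_group hE8 _ _⟩ : ↥(chevE8.group k))⁻¹ =
        X (chevE8.reflectRoot i s) ((eta chevE8 i s : k) * t) := by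
  apply Subtype.ext
  show nG hE8 (chevE8.simple i) 1 * xG hE8 s t * (nG hE8 (chevE8.simple i) 1)⁻¹ =
    xG hE8 (chevE8.reflectRoot i s) ((eta chevE8 i s : k) * t)
  rw [mul_inv_eq_iff_eq_mul]
  apply Units.ext
  rw [Units.val_mul, Units.val_mul, coe_nG, coe_xG, coe_xG]
  exact ConjSimpleAll.nMat_mul_x hE8 hi hs t

theorem refl_lt {i s : ℕ} (hi : i < 8) (hs : s < 240) : chevE8.reflectRoot i s < 240 :=
  NPerm.reflectRoot_lt hE8 hi hs

theorem nW_X (l : List ℕ) (hl : ∀ i ∈ l, i < 8) {s : ℕ} (hs : s < 240) (t : k) :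
    (act l s).1 < 240 ∧ nW k l * X s t * (nW k l)⁻¹ = X (act l s).1 (((act l s).2 : k) * t) := by
  induction l with
  | nil =>
    refine ⟨hs, ?_⟩
    show (1 : ↥(chevE8.group k)) * X s t * 1⁻¹ = X s (((1 : ℤ) : k) * t)
    rw [Int.cast_one, one_mul, one_mul, inv_one, mul_one]
  | cons i l ih =>
    obtain ⟨h1, h2⟩ := ih (fun j hj => hl j (List.mem_cons_of_mem _ hj))
    have hi := hl i List.mem_cons_self
    refine ⟨refl_lt hi h1, ?_⟩
    show _ = X (chevE8.reflectRoot i (act l s).1) (((eta chevE8 i (act l s).1 * (act l s).2 : ℤ) : k) * t)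
    have h3 := nG_X (k := k) hi h1 (((act l s).2 : k) * t)
    rw [Int.cast_mul, mul_assoc (eta chevE8 i (act l s).1 : k), ← h3, ← h2]
    show (_ * nW k l) * X s t * (_ * nW k l)⁻¹ = _
    group

end

end Cfsg.Agent.H992.E8X

private theorem dce_ebee3cbab451 : _root_.True := by
  try have : _root_.True := by simp only [_root_.Cfsg.Agent.H992.E8X.Cm.eq_1]
  try have : _root_.True := by simp only [_root_.Cfsg.Agent.H992.E8X.Br.eq_1]
  exact _root_.True.intro
end

-- part: H992/E8X/Sig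
section
set_option linter.all false
open scoped Cfsg.Agent.FastGrp

-- part: H992/E8X/Tab
section
/-!
# Tables for `SU₃(u⁴) < E₈(u)` (helper992)

`A₇` coordinates `0..7`; `wl` is the word of an `8`-cycle `w` of `W(A₇)` with `n⁸ = 1`.
Base roots: `τ = 142` (triple `{0,1,3}`), `w⁴ τ = 201`, `π = 215` (pair `{2,6}`), `ν = 232` (pair `{0,1}`),
`τ' = 186` (triple `{2,3,6}`), `ρ = 235` (level three), `S = 219 = τ' + w² τ'`.
-/

set_option autoImplicit false

namespace Cfsg.Agent.H992.E8X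

open Cfsg Cfsg.Lie

/-- the word -/
def wl : List ℕ := [0, 2, 3, 4, 5, 6, 7, 1, 1]

theorem wl_lt : ∀ i ∈ wl, i < 8 := by decide

/-- iterates of the action of the word -/
def it (r : ℕ) : ℕ → ℕ × ℤ
  | 0 => (r, 1)
  | i + 1 => ((act wl (it r i).1).1, (act wl (it r i).1).2 * (it r i).2)

private noncomputable def frc (n : ℕ) (k : ℕ → ℕ × ℤ) : ℕ × ℤ := Nat.rec (k 0) (fun m _ => k (Nat.succ m)) n

private theorem frc_eq (n : ℕ) (k : ℕ → ℕ × ℤ) : frc n k = k n := by cases n <;> rfl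

private noncomputable def frz (z : ℤ) (k : ℤ → ℕ × ℤ) : ℕ × ℤ :=
  Int.rec (fun n => frc n fun a => k (Int.ofNat a)) (fun n => frc n fun a => k (Int.negSucc a)) z

private theorem frz_eq (z : ℤ) (k : ℤ → ℕ × ℤ) : frz z k = k z := by
  cases z <;> simp only [frz, frc_eq]

private noncomputable def actS (f : ℕ → ℕ → ℕ) (g : ℕ → ℕ → ℤ) (l : List ℕ) (r : ℕ) (z : ℤ) :
    (ℕ → ℤ → ℕ × ℤ) → ℕ × ℤ :=
  List.rec (fun k => k r z)
    (fun i _ ih k => ih fun s y => frc (f i s) fun s' => frz (g i s * y) fun y' => k s' y') l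

private theorem actS_eq (l : List ℕ) (r : ℕ) (z : ℤ) (k : ℕ → ℤ → ℕ × ℤ) :
    actS chevE8.reflectRoot (Cfsg.Agent.ChevalleyStructure.NSimple.eta chevE8) l r z k =
      k (act l r).1 ((act l r).2 * z) := by
  induction l generalizing k with
  | nil => exact congrArg (k r) (one_mul z).symm
  | cons i l ih =>
    refine (ih _).trans ?_
    rewrite [frc_eq, frz_eq, ← mul_assoc]
    rfl

private noncomputable def itS (f : ℕ → ℕ → ℕ) (g : ℕ → ℕ → ℤ) (r n : ℕ) : (ℕ → ℤ → ℕ × ℤ) → ℕ × ℤ :=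
  Nat.rec (fun k => k r 1) (fun _ ih k => ih fun s y => actS f g wl s y k) n

private theorem itS_eq (r n : ℕ) (k : ℕ → ℤ → ℕ × ℤ) :
    itS chevE8.reflectRoot (Cfsg.Agent.ChevalleyStructure.NSimple.eta chevE8) r n k =
      k (it r n).1 (it r n).2 := by
  induction n generalizing k with
  | zero => rfl
  | succ n ih =>
    refine (ih _).trans ?_
    simp only [actS_eq, it]

private theorem it_fast : it = fun r n =>
    itS chevE8.reflectRoot (Cfsg.Agent.ChevalleyStructure.NSimple.eta chevE8) r n Prod.mk := by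
  funext r n
  rw [itS_eq]

/-- the orbits -/
def oT : Fin 8 → ℕ := ![142, 170, 185, 195, 201, 159, 183, 151]
def oN : Fin 8 → ℕ := ![232, 224, 218, 213, 209, 206, 204, 226]
def oP : Fin 8 → ℕ := ![215, 210, 229, 221, 215, 210, 229, 221]
def oQ : Fin 8 → ℕ := ![186, 196, 156, 181, 193, 155, 143, 171]
def oR : Fin 8 → ℕ := ![235, 236, 237, 238, 239, 225, 233, 234]
def oS : Fin 8 → ℕ := ![219, 231, 223, 217, 212, 208, 205, 227]

theorem it_T : ∀ i : Fin 8, (it 142 i).1 = oT i := by (rewrite [it_fast]; delta Cfsg.Agent.ChevalleyStructure.NSimple.eta Cfsg.Lie.ChevalleyDatum.chainM Cfsg.Lie.ChevalleyDatum.chainRoot Cfsg.Lie.ChevalleyDatum.reflectRoot; rewrite [Cfsg.Agent.ChevFast.E8.cartan, Cfsg.Agent.ChevFast.E8.chainEntry, Cfsg.Agent.ChevFast.E8.neg]; decide +kernel)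
theorem it_N : ∀ i : Fin 8, (it 232 i).1 = oN i := by (rewrite [it_fast]; delta Cfsg.Agent.ChevalleyStructure.NSimple.eta Cfsg.Lie.ChevalleyDatum.chainM Cfsg.Lie.ChevalleyDatum.chainRoot Cfsg.Lie.ChevalleyDatum.reflectRoot; rewrite [Cfsg.Agent.ChevFast.E8.cartan, Cfsg.Agent.ChevFast.E8.chainEntry, Cfsg.Agent.ChevFast.E8.neg]; decide +kernel)
theorem it_P : ∀ i : Fin 8, (it 215 i).1 = oP i := by (rewrite [it_fast]; delta Cfsg.Agent.ChevalleyStructure.NSimple.eta Cfsg.Lie.ChevalleyDatum.chainM Cfsg.Lie.ChevalleyDatum.chainRoot Cfsg.Lie.ChevalleyDatum.reflectRoot; rewrite [Cfsg.Agent.ChevFast.E8.cartan, Cfsg.Agent.ChevFast.E8.chainEntry, Cfsg.Agent.ChevFast.E8.neg]; decide +kernel)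
theorem it_Q : ∀ i : Fin 8, (it 186 i).1 = oQ i := by (rewrite [it_fast]; delta Cfsg.Agent.ChevalleyStructure.NSimple.eta Cfsg.Lie.ChevalleyDatum.chainM Cfsg.Lie.ChevalleyDatum.chainRoot Cfsg.Lie.ChevalleyDatum.reflectRoot; rewrite [Cfsg.Agent.ChevFast.E8.cartan, Cfsg.Agent.ChevFast.E8.chainEntry, Cfsg.Agent.ChevFast.E8.neg]; decide +kernel)
theorem it_R : ∀ i : Fin 8, (it 235 i).1 = oR i := by (rewrite [it_fast]; delta Cfsg.Agent.ChevalleyStructure.NSimple.eta Cfsg.Lie.ChevalleyDatum.chainM Cfsg.Lie.ChevalleyDatum.chainRoot Cfsg.Lie.ChevalleyDatum.reflectRoot; rewrite [Cfsg.Agent.ChevFast.E8.cartan, Cfsg.Agent.ChevFast.E8.chainEntry, Cfsg.Agent.ChevFast.E8.neg]; decide +kernel)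
theorem it_S : ∀ i : Fin 8, (it 219 i).1 = oS i := by (rewrite [it_fast]; delta Cfsg.Agent.ChevalleyStructure.NSimple.eta Cfsg.Lie.ChevalleyDatum.chainM Cfsg.Lie.ChevalleyDatum.chainRoot Cfsg.Lie.ChevalleyDatum.reflectRoot; rewrite [Cfsg.Agent.ChevFast.E8.cartan, Cfsg.Agent.ChevFast.E8.chainEntry, Cfsg.Agent.ChevFast.E8.neg]; decide +kernel)

theorem it8_142 : it 142 8 = (142, 1) := by (rewrite [it_fast]; delta Cfsg.Agent.ChevalleyStructure.NSimple.eta Cfsg.Lie.ChevalleyDatum.chainM Cfsg.Lie.ChevalleyDatum.chainRoot Cfsg.Lie.ChevalleyDatum.reflectRoot; rewrite [Cfsg.Agent.ChevFast.E8.cartan, Cfsg.Agent.ChevFast.E8.chainEntry, Cfsg.Agent.ChevFast.E8.neg]; decide +kernel)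
theorem it8_232 : it 232 8 = (232, 1) := by (rewrite [it_fast]; delta Cfsg.Agent.ChevalleyStructure.NSimple.eta Cfsg.Lie.ChevalleyDatum.chainM Cfsg.Lie.ChevalleyDatum.chainRoot Cfsg.Lie.ChevalleyDatum.reflectRoot; rewrite [Cfsg.Agent.ChevFast.E8.cartan, Cfsg.Agent.ChevFast.E8.chainEntry, Cfsg.Agent.ChevFast.E8.neg]; decide +kernel)
theorem it8_215 : it 215 8 = (215, 1) := by (rewrite [it_fast]; delta Cfsg.Agent.ChevalleyStructure.NSimple.eta Cfsg.Lie.ChevalleyDatum.chainM Cfsg.Lie.ChevalleyDatum.chainRoot Cfsg.Lie.ChevalleyDatum.reflectRoot; rewrite [Cfsg.Agent.ChevFast.E8.cartan, Cfsg.Agent.ChevFast.E8.chainEntry, Cfsg.Agent.ChevFast.E8.neg]; decide +kernel)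
theorem it8_186 : it 186 8 = (186, 1) := by (rewrite [it_fast]; delta Cfsg.Agent.ChevalleyStructure.NSimple.eta Cfsg.Lie.ChevalleyDatum.chainM Cfsg.Lie.ChevalleyDatum.chainRoot Cfsg.Lie.ChevalleyDatum.reflectRoot; rewrite [Cfsg.Agent.ChevFast.E8.cartan, Cfsg.Agent.ChevFast.E8.chainEntry, Cfsg.Agent.ChevFast.E8.neg]; decide +kernel)
theorem it8_235 : it 235 8 = (235, 1) := by (rewrite [it_fast]; delta Cfsg.Agent.ChevalleyStructure.NSimple.eta Cfsg.Lie.ChevalleyDatum.chainM Cfsg.Lie.ChevalleyDatum.chainRoot Cfsg.Lie.ChevalleyDatum.reflectRoot; rewrite [Cfsg.Agent.ChevFast.E8.cartan, Cfsg.Agent.ChevFast.E8.chainEntry, Cfsg.Agent.ChevFast.E8.neg]; decide +kernel)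
theorem it8_219 : it 219 8 = (219, 1) := by (rewrite [it_fast]; delta Cfsg.Agent.ChevalleyStructure.NSimple.eta Cfsg.Lie.ChevalleyDatum.chainM Cfsg.Lie.ChevalleyDatum.chainRoot Cfsg.Lie.ChevalleyDatum.reflectRoot; rewrite [Cfsg.Agent.ChevFast.E8.cartan, Cfsg.Agent.ChevFast.E8.chainEntry, Cfsg.Agent.ChevFast.E8.neg]; decide +kernel)

theorem it8 : ∀ r ∈ [142, 232, 215, 186, 235, 219], it r 8 = (r, 1) := by
  intro r hr
  simp only [List.mem_cons, List.not_mem_nil, or_false] at hr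
  rcases hr with rfl | rfl | rfl | rfl | rfl | rfl
  · exact it8_142
  · exact it8_232
  · exact it8_215
  · exact it8_186
  · exact it8_235
  · exact it8_219

/-- the roots of `A₂` -/
def rt : Fin 3 → Fin 3 → ℕ := ![![0, 142, 215], ![97, 0, 201], ![24, 38, 0]]
/-- the signs -/
def sn : Fin 3 → Fin 3 → ℤ := ![![0, 1, -1], ![1, 0, -1], ![-1, -1, 0]]

theorem rt_lt : ∀ i j : Fin 3, rt i j < 240 := by decide

theorem rt_comm : ∀ i j k l : Fin 3, i ≠ j → k ≠ l → j ≠ k → i ≠ l → Cm (rt k l) (rt i j) = true := by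
  (delta Cfsg.Agent.H992.E8X.Cm; rewrite [Cfsg.Agent.ChevFast.E8.commTerms, Cfsg.Agent.ChevFast.E8.neg]; decide +kernel)

/-- the commutator coefficient with sign -/
def bc (i j l : Fin 3) : ℤ := - (sn i l * (sn i j * sn j l))

theorem rt_br : ∀ i j l : Fin 3, i ≠ j → j ≠ l → i ≠ l → Br (rt j l) (rt i j) (rt i l) (bc i j l) = true := by
  (delta Cfsg.Agent.H992.E8X.Br Cfsg.Agent.H992.E8X.Cm; rewrite [Cfsg.Agent.ChevFast.E8.commTerms, Cfsg.Agent.ChevFast.E8.neg]; decide +kernel)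

theorem rt_four : ∀ i j : Fin 3, i ≠ j → it (rt i j) 4 = (rt (2 - j) (2 - i), - (sn (2 - j) (2 - i) * sn i j)) := by
  (rewrite [it_fast]; delta Cfsg.Agent.ChevalleyStructure.NSimple.eta Cfsg.Lie.ChevalleyDatum.chainM Cfsg.Lie.ChevalleyDatum.chainRoot Cfsg.Lie.ChevalleyDatum.reflectRoot; rewrite [Cfsg.Agent.ChevFast.E8.cartan, Cfsg.Agent.ChevFast.E8.chainEntry, Cfsg.Agent.ChevFast.E8.neg]; decide +kernel)

theorem rt_cross : ∀ i j k l : Fin 3, ∀ s ∈ [1, 2, 3], i ≠ j → k ≠ l → Cm (it (rt i j) s).1 (rt k l) = true := by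
  (rewrite [it_fast]; delta Cfsg.Agent.ChevalleyStructure.NSimple.eta Cfsg.Agent.H992.E8X.Cm Cfsg.Lie.ChevalleyDatum.chainM Cfsg.Lie.ChevalleyDatum.chainRoot Cfsg.Lie.ChevalleyDatum.reflectRoot; rewrite [Cfsg.Agent.ChevFast.E8.cartan, Cfsg.Agent.ChevFast.E8.chainEntry, Cfsg.Agent.ChevFast.E8.commTerms, Cfsg.Agent.ChevFast.E8.neg]; decide +kernel)

/-! ### commutation among the orbits -/

theorem cm_TN : ∀ i j : Fin 8, i ≠ j → Cm (oT i) (oN j) = true := by (delta Cfsg.Agent.H992.E8X.Cm; rewrite [Cfsg.Agent.ChevFast.E8.commTerms, Cfsg.Agent.ChevFast.E8.neg]; decide +kernel)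
theorem cm_NP : ∀ i j : Fin 8, Cm (oN i) (oP j) = true := by (delta Cfsg.Agent.H992.E8X.Cm; rewrite [Cfsg.Agent.ChevFast.E8.commTerms, Cfsg.Agent.ChevFast.E8.neg]; decide +kernel)
theorem cm_NN : ∀ i j : Fin 8, Cm (oN i) (oN j) = true := by (delta Cfsg.Agent.H992.E8X.Cm; rewrite [Cfsg.Agent.ChevFast.E8.commTerms, Cfsg.Agent.ChevFast.E8.neg]; decide +kernel)
theorem cm_RT : ∀ i j : Fin 8, Cm (oR i) (oT j) = true := by (delta Cfsg.Agent.H992.E8X.Cm; rewrite [Cfsg.Agent.ChevFast.E8.commTerms, Cfsg.Agent.ChevFast.E8.neg]; decide +kernel)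
theorem cm_RN : ∀ i j : Fin 8, Cm (oR i) (oN j) = true := by (delta Cfsg.Agent.H992.E8X.Cm; rewrite [Cfsg.Agent.ChevFast.E8.commTerms, Cfsg.Agent.ChevFast.E8.neg]; decide +kernel)
theorem cm_RP : ∀ i j : Fin 8, Cm (oR i) (oP j) = true := by (delta Cfsg.Agent.H992.E8X.Cm; rewrite [Cfsg.Agent.ChevFast.E8.commTerms, Cfsg.Agent.ChevFast.E8.neg]; decide +kernel)
theorem cm_RQ : ∀ i j : Fin 8, Cm (oR i) (oQ j) = true := by (delta Cfsg.Agent.H992.E8X.Cm; rewrite [Cfsg.Agent.ChevFast.E8.commTerms, Cfsg.Agent.ChevFast.E8.neg]; decide +kernel)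
theorem cm_RR : ∀ i j : Fin 8, Cm (oR i) (oR j) = true := by (delta Cfsg.Agent.H992.E8X.Cm; rewrite [Cfsg.Agent.ChevFast.E8.commTerms, Cfsg.Agent.ChevFast.E8.neg]; decide +kernel)
theorem cm_RS : ∀ i j : Fin 8, Cm (oR i) (oS j) = true := by (delta Cfsg.Agent.H992.E8X.Cm; rewrite [Cfsg.Agent.ChevFast.E8.commTerms, Cfsg.Agent.ChevFast.E8.neg]; decide +kernel)
theorem cm_SS : ∀ i j : Fin 8, Cm (oS i) (oS j) = true := by (delta Cfsg.Agent.H992.E8X.Cm; rewrite [Cfsg.Agent.ChevFast.E8.commTerms, Cfsg.Agent.ChevFast.E8.neg]; decide +kernel)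
theorem cm_SP : ∀ i j : Fin 8, Cm (oS i) (oP j) = true := by (delta Cfsg.Agent.H992.E8X.Cm; rewrite [Cfsg.Agent.ChevFast.E8.commTerms, Cfsg.Agent.ChevFast.E8.neg]; decide +kernel)
theorem cm_SQ : ∀ i j : Fin 8, Cm (oS i) (oQ j) = true := by (delta Cfsg.Agent.H992.E8X.Cm; rewrite [Cfsg.Agent.ChevFast.E8.commTerms, Cfsg.Agent.ChevFast.E8.neg]; decide +kernel)
theorem cm_QP : ∀ i : Fin 8, i ≠ 0 → i ≠ 4 → Cm (oQ i) (oP 0) = true := by (delta Cfsg.Agent.H992.E8X.Cm; rewrite [Cfsg.Agent.ChevFast.E8.commTerms, Cfsg.Agent.ChevFast.E8.neg]; decide +kernel)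
theorem cm_QQ : ∀ i j : Fin 8, i ≠ j + 2 → j ≠ i + 2 → Cm (oQ i) (oQ j) = true := by (delta Cfsg.Agent.H992.E8X.Cm; rewrite [Cfsg.Agent.ChevFast.E8.commTerms, Cfsg.Agent.ChevFast.E8.neg]; decide +kernel)

theorem br_TN : Br 232 142 235 (-1) = true := by (delta Cfsg.Agent.H992.E8X.Br Cfsg.Agent.H992.E8X.Cm; rewrite [Cfsg.Agent.ChevFast.E8.commTerms, Cfsg.Agent.ChevFast.E8.neg]; decide +kernel)
theorem br_PQ : Br 186 215 235 (-1) = true := by (delta Cfsg.Agent.H992.E8X.Br Cfsg.Agent.H992.E8X.Cm; rewrite [Cfsg.Agent.ChevFast.E8.commTerms, Cfsg.Agent.ChevFast.E8.neg]; decide +kernel)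
theorem br_QQ : Br 156 186 219 1 = true := by (delta Cfsg.Agent.H992.E8X.Br Cfsg.Agent.H992.E8X.Cm; rewrite [Cfsg.Agent.ChevFast.E8.commTerms, Cfsg.Agent.ChevFast.E8.neg]; decide +kernel)

/-! ### a root that separates `ρ` from its conjugates -/

theorem cm_sep : ∀ j : Fin 8, j ≠ 0 → Cm 109 (oR j) = true := by (delta Cfsg.Agent.H992.E8X.Cm; rewrite [Cfsg.Agent.ChevFast.E8.commTerms, Cfsg.Agent.ChevFast.E8.neg]; decide +kernel)

theorem br_sep : ∃ c : ℤ, (c = 1 ∨ c = -1) ∧ Br 109 235 234 c = true := by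
  by_cases h : Br 109 235 234 1 = true
  · exact ⟨1, Or.inl rfl, h⟩
  · refine ⟨-1, Or.inr rfl, ?_⟩
    revert h
    (delta Cfsg.Agent.H992.E8X.Br Cfsg.Agent.H992.E8X.Cm; rewrite [Cfsg.Agent.ChevFast.E8.commTerms, Cfsg.Agent.ChevFast.E8.neg]; decide +kernel)

/-! ### the torus of `π` -/

/-- check of `ChainAdd` -/
def chk (D : ChevalleyDatum) (r : ℕ) (f : ℕ → ℤ) : Bool :=
  decide (f r = 1) && decide (f (D.neg r) = -1) &&
    (D.chain.getD r #[]).toList.all fun e => e.2.toList.zipIdx.all fun q => decide (f q.1.1 = f e.1 + (q.2 + 1))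

theorem chainAdd_of_chk {D : ChevalleyDatum} {r : ℕ} {f : ℕ → ℤ} (h : chk D r f = true) :
    Cfsg.Agent.ChevalleyStructure.DiagConj.ChainAdd D r f := by
  simp only [chk, Bool.and_eq_true, decide_eq_true_eq, List.all_eq_true] at h
  refine ⟨h.1.1, h.1.2, fun e he j q hq _ => ?_⟩
  exact h.2 e he (q, j) (List.mem_zipIdx_iff_getElem?.2 hq)

open Cfsg.Agent.ChevalleyStructure in
theorem chk_R_235 : chk chevE8 235 (fun s => Strings.cartanR chevE8 215 s) = true := by
  (delta Cfsg.Agent.ChevalleyStructure.Strings.cartanR Cfsg.Agent.ChevalleyStructure.Strings.co Cfsg.Agent.H992.E8X.chk; rewrite [Cfsg.Agent.ChevFast.E8.cartan, Cfsg.Agent.ChevFast.E8.chain, Cfsg.Agent.ChevFast.E8.coroot, Cfsg.Agent.ChevFast.E8.neg]; decide +kernel)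

open Cfsg.Agent.ChevalleyStructure in
theorem chk_R_233 : chk chevE8 233 (fun s => Strings.cartanR chevE8 215 s) = true := by
  (delta Cfsg.Agent.ChevalleyStructure.Strings.cartanR Cfsg.Agent.ChevalleyStructure.Strings.co Cfsg.Agent.H992.E8X.chk; rewrite [Cfsg.Agent.ChevFast.E8.cartan, Cfsg.Agent.ChevFast.E8.chain, Cfsg.Agent.ChevFast.E8.coroot, Cfsg.Agent.ChevFast.E8.neg]; decide +kernel)

open Cfsg.Agent.ChevalleyStructure in
theorem chk_R_225 : chk chevE8 225 (fun s => Strings.cartanR chevE8 215 s) = true := by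
  (delta Cfsg.Agent.ChevalleyStructure.Strings.cartanR Cfsg.Agent.ChevalleyStructure.Strings.co Cfsg.Agent.H992.E8X.chk; rewrite [Cfsg.Agent.ChevFast.E8.cartan, Cfsg.Agent.ChevFast.E8.chain, Cfsg.Agent.ChevFast.E8.coroot, Cfsg.Agent.ChevFast.E8.neg]; decide +kernel)

open Cfsg.Agent.ChevalleyStructure in
theorem chk_R : ∀ r ∈ [235, 233, 225], chk chevE8 r (fun s => Strings.cartanR chevE8 215 s) = true := by
  intro r hr
  simp only [List.mem_cons, List.not_mem_nil, or_false] at hr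
  rcases hr with rfl | rfl | rfl
  · exact chk_R_235
  · exact chk_R_233
  · exact chk_R_225

theorem cm_R7 : Cm 215 234 = true ∧ Cm 24 234 = true := by (delta Cfsg.Agent.H992.E8X.Cm; rewrite [Cfsg.Agent.ChevFast.E8.commTerms, Cfsg.Agent.ChevFast.E8.neg]; decide +kernel)

end Cfsg.Agent.H992.E8X
end

-- part: H992/E8X/Sig
section
/-!
# The endomorphism `σ = n ∘ Φ` of `E₈(k)` (helper992)
-/

set_option autoImplicit false

namespace Cfsg.Agent.H992.E8X

open Cfsg Cfsg.Lie Cfsg.Agent.ChevalleyStructure Cfsg.Agent.ChevalleyStructure.Elts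
open Cfsg.Agent.BpExc.FamUntw (phi)
open scoped commutatorElement

universe u

section
variable {k : Type u} [Field k] {p : ℕ} [Fact p.Prime] [CharP k p] [PerfectRing k p] {n : ℕ}

variable (k p n) in
/-- the endomorphism `σ` -/
noncomputable def sig : MulAut ↥(chevE8.group k) := MulAut.conj (nW k wl) * phi chevE8 k p n

theorem phi_X (r : ℕ) (t : k) : phi chevE8 k p n (X r t) = X r (t ^ p ^ n) := by
  apply Subtype.ext
  rw [Cfsg.Agent.H378.TorFin.phi_glMap]
  show Cfsg.Agent.GpExc.Field.glMap chevE8 (Cfsg.Agent.H378.TorFin.frobHom k p n) (xG hE8 r t) = xG hE8 r (t ^ p ^ n)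
  rw [Cfsg.Agent.GpExc.Field.glMap_xG hE8, Cfsg.Agent.H378.TorFin.frobHom_apply]

theorem sig_X {r : ℕ} (hr : r < 240) (t : k) :
    sig k p n (X r t) = X (act wl r).1 (((act wl r).2 : k) * t ^ p ^ n) := by
  show nW k wl * phi chevE8 k p n (X r t) * (nW k wl)⁻¹ = _
  rw [phi_X, (nW_X wl wl_lt hr _).2]

omit [PerfectRing k p] in
theorem intCast_pow (z : ℤ) (m : ℕ) : (z : k) ^ p ^ m = z := by
  have h1 : iterateFrobenius k p m (z : k) = z := map_intCast _ z
  rwa [iterateFrobenius_def] at h1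

theorem sig_it {r : ℕ} (hr : r < 240) (i : ℕ) (t : k) :
    (it r i).1 < 240 ∧ (sig k p n ^ i) (X r t) = X (it r i).1 (((it r i).2 : k) * t ^ (p ^ n) ^ i) := by
  induction i with
  | zero =>
    refine ⟨hr, ?_⟩
    rw [pow_zero, MulAut.one_apply]
    show X r t = X r (((1 : ℤ) : k) * t ^ (p ^ n) ^ 0)
    rw [Int.cast_one, one_mul, pow_zero, pow_one]
  | succ i ih =>
    obtain ⟨h1, h2⟩ := ih
    have e1 : (it r (i + 1)).1 = (act wl (it r i).1).1 := by rw [it]
    have e2 : (it r (i + 1)).2 = (act wl (it r i).1).2 * (it r i).2 := by rw [it]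
    rewrite [e1, e2]
    refine ⟨(nW_X (k := k) wl wl_lt h1 0).1, ?_⟩
    rw [pow_succ', MulAut.mul_apply, h2, sig_X h1, mul_pow, intCast_pow, Int.cast_mul, mul_assoc, ← pow_mul,
      ← pow_succ]

theorem sig_commute {r s : ℕ} (hr : r < 240) (hs : s < 240) {i j : ℕ}
    (h : Cm (it r i).1 (it s j).1 = true) (t u : k) :
    Commute ((sig k p n ^ j) (X s u)) ((sig k p n ^ i) (X r t)) := by
  obtain ⟨h1, h2⟩ := sig_it (k := k) (p := p) (n := n) hr i t
  obtain ⟨h3, h4⟩ := sig_it (k := k) (p := p) (n := n) hs j u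
  rw [h2, h4]
  exact X_commute h1 h3 h _ _

/-- `σ⁸` on the base roots -/
theorem sig_eight {r : ℕ} (hr : r < 240) (h8 : it r 8 = (r, 1)) {t : k} (ht : t ^ (p ^ n) ^ 8 = t) :
    (sig k p n ^ 8) (X r t) = X r t := by
  rw [(sig_it hr 8 t).2, h8, ht, Int.cast_one, one_mul]

/-- the fixed points of `σ` -/
noncomputable def fixG (k : Type u) [Field k] (p : ℕ) [Fact p.Prime] [CharP k p] [PerfectRing k p] (n : ℕ) :
    Subgroup ↥(chevE8.group k) where
  carrier := {g | sig k p n g = g}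
  mul_mem' {a b} ha hb := by
    show sig k p n (a * b) = a * b
    rw [map_mul, show sig k p n a = a from ha, show sig k p n b = b from hb]
  one_mem' := map_one _
  inv_mem' {a} ha := by
    show sig k p n a⁻¹ = a⁻¹
    rw [map_inv, show sig k p n a = a from ha]

theorem pow_sig_fix {g : ↥(chevE8.group k)} (h : sig k p n g = g) (i : ℕ) : (sig k p n ^ i) g = g := by
  induction i with
  | zero => rw [pow_zero]; rfl
  | succ i ih => rw [pow_succ', MulAut.mul_apply, ih, h]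

/-- the product over an orbit -/
noncomputable def P8 (k : Type u) [Field k] (p : ℕ) [Fact p.Prime] [CharP k p] [PerfectRing k p] (n : ℕ)
    (g : ↥(chevE8.group k)) : ↥(chevE8.group k) :=
  g * (sig k p n ^ 1) g * (sig k p n ^ 2) g * (sig k p n ^ 3) g * (sig k p n ^ 4) g * (sig k p n ^ 5) g *
    (sig k p n ^ 6) g * (sig k p n ^ 7) g

theorem sig_pow_succ (i : ℕ) (g : ↥(chevE8.group k)) : sig k p n ((sig k p n ^ i) g) = (sig k p n ^ (i + 1)) g := by
  rw [pow_succ', MulAut.mul_apply]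

end

section Gen
variable {G : Type*} [Group G]

/-- moving the first factor to the end -/
theorem rot8 {x0 x1 x2 x3 x4 x5 x6 x7 : G} (h1 : Commute x0 x1) (h2 : Commute x0 x2) (h3 : Commute x0 x3)
    (h4 : Commute x0 x4) (h5 : Commute x0 x5) (h6 : Commute x0 x6) (h7 : Commute x0 x7) :
    x1 * x2 * x3 * x4 * x5 * x6 * x7 * x0 = x0 * x1 * x2 * x3 * x4 * x5 * x6 * x7 := by
  have h : Commute x0 (x1 * x2 * x3 * x4 * x5 * x6 * x7) :=
    ((((((h1.mul_right h2).mul_right h3).mul_right h4).mul_right h5).mul_right h6).mul_right h7)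
  rw [← h.eq]
  group

end Gen

section
variable {k : Type u} [Field k] {p : ℕ} [Fact p.Prime] [CharP k p] [PerfectRing k p] {n : ℕ}

theorem sig_P8 {g : ↥(chevE8.group k)} (h8 : (sig k p n ^ 8) g = g)
    (hc : ∀ i ∈ [1, 2, 3, 4, 5, 6, 7], Commute g ((sig k p n ^ i) g)) : sig k p n (P8 k p n g) = P8 k p n g := by
  unfold P8
  simp only [map_mul, sig_pow_succ]
  rw [h8]
  have h0 : sig k p n g = (sig k p n ^ 1) g := by rw [pow_one]
  rw [h0]
  exact rot8 (hc 1 (by decide)) (hc 2 (by decide)) (hc 3 (by decide)) (hc 4 (by decide)) (hc 5 (by decide))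
    (hc 6 (by decide)) (hc 7 (by decide))

end

/-! ### The fixed points of `σ` embed into `E₈(F)` -/

section
open Cfsg.Agent.GpExc.Field (emb emb_injective)
open Cfsg.Agent.Nodes.RGDChev (IsType)

variable {k : Type u} [Field k] [IsAlgClosed k] {p : ℕ} [Fact p.Prime] [CharP k p]
  {F : Type u} [Field F] [Finite F] (f : F →+* k) {n : ℕ}

theorem e8T : IsType chevE8 8 CoxeterMatrix.E₈ := by simp [IsType, Cfsg.Agent.Nodes.RGDChev.typeList]

include f in
/-- Lang's theorem: `σ` and the Frobenius map have conjugate groups of fixed points. -/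
theorem exists_fix_hom (hn0 : 0 < n) (hn : Nat.card F = p ^ n) :
    ∃ θ : ↥(fixG k p n) →* ↥(chevE8.group F), Function.Injective θ := by
  obtain ⟨z, hz⟩ := Cfsg.Agent.H378.TorFin.lang' (k := k) e8T p hn0 (nW k wl)
  have hfix : ∀ g : ↥(fixG k p n), z * g.1 * z⁻¹ ∈ (emb hE8 f).range := by
    intro g
    apply Cfsg.Agent.H378.TorFin.fix_mem e8T f p hn Cfsg.Agent.H129.TorusChar.invC_E8
    have h1 : phi chevE8 k p n z = z * nW k wl := by rw [← hz]; group
    have h2 : nW k wl * phi chevE8 k p n g.1 * (nW k wl)⁻¹ = g.1 := g.2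
    rw [map_mul, map_mul, map_inv, h1]
    calc z * nW k wl * phi chevE8 k p n g.1 * (z * nW k wl)⁻¹ =
        z * (nW k wl * phi chevE8 k p n g.1 * (nW k wl)⁻¹) * z⁻¹ := by group
      _ = _ := by rw [h2]
  let ψ : ↥(fixG k p n) →* ↥(emb hE8 f).range :=
    ((MulAut.conj z).toMonoidHom.comp (fixG k p n).subtype).codRestrict _ hfix
  have hψ : Function.Injective ψ := by
    intro a b hab
    have h1 : z * a.1 * z⁻¹ = z * b.1 * z⁻¹ := congrArg Subtype.val hab
    exact Subtype.ext (by simpa using h1)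
  refine ⟨(MonoidHom.ofInjective (emb_injective hE8 f)).symm.toMonoidHom.comp ψ, ?_⟩
  exact (MonoidHom.ofInjective (emb_injective hE8 f)).symm.injective.comp hψ

end

end Cfsg.Agent.H992.E8X
end

private theorem dce_caef1be5ae3d : _root_.True := by
  try have : _root_.True := by simp only [_root_.Cfsg.Agent.H992.E8X.sig.congr_simp]
  try have : _root_.True := by simp only [_root_.Cfsg.Agent.H992.E8X.chk.eq_1]
  exact _root_.True.intro
end
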