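import Cfsg.Agent.LieClassical.SLGen
import Mathlib
import Cfsg.Agent.H992.E8X.Sig
import Cfsg.Agent.H135.KTwoB
import Cfsg.Agent.AGraded.Hom
import Cfsg.Agent.H929.UThreeGeo
import Cfsg.Agent.ChevFast.E8
import Cfsg.Agent.FastGrp
import Cfsg.Agent.Prune
set_option linter.all false
prune_inst 0x7fbefdf9efb8bfffdfff7e77fed8dffc1bd49ffff6dff94bffe0e1ffab9f230229c56bad0de050ff0ed6c0b410b87843fb7eefffea6fdc7ffffdfff41ffbee4ff5f7b588119488240f340ffe03f07fce7f3fffffffffffffffffffffffffffbeffffffffffff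
open scoped Cfsg.Agent.FastGrp

-- part: H992/E8X/Su3
section
/-!
# `SU₃(Q)` for the antidiagonal form: subgroups `U`, `C`, `Z` and the Bruhat decomposition (helper992)
-/

set_option autoImplicit false

namespace Cfsg.Agent.H992.E8X.Su3

open Matrix Matrix.SpecialLinearGroup

universe v

section Star
variable {E : Type v} [Field E]

/-- the Frobenius map composed with the inverse transpose -/
def st (σ : E →+* E) : _root_.Matrix.SpecialLinearGroup (Fin 3) E →* _root_.Matrix.SpecialLinearGroup (Fin 3) E where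
  toFun A := (SpecialLinearGroup.map σ A)⁻¹.transpose
  map_one' := by
    rw [map_one, inv_one]
    exact Subtype.ext Matrix.transpose_one
  map_mul' A B := by
    rw [map_mul, _root_.mul_inv_rev]
    exact Subtype.ext (by
      rw [coe_transpose, coe_mul, coe_mul, Matrix.transpose_mul, coe_transpose, coe_transpose])

theorem st_transvection (σ : E →+* E) {i j : Fin 3} (hij : i ≠ j) (a : E) :
    st σ (_root_.Matrix.SpecialLinearGroup.transvection hij a) = _root_.Matrix.SpecialLinearGroup.transvection hij.symm (-σ a) := by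
  have h1 : SpecialLinearGroup.map σ (_root_.Matrix.SpecialLinearGroup.transvection hij a) = _root_.Matrix.SpecialLinearGroup.transvection hij (σ a) := by
    apply Subtype.ext
    show (σ.mapMatrix (1 + single i j a)) = 1 + single i j (σ a)
    rw [map_add, map_one, RingHom.mapMatrix_apply, Matrix.map_single]
  show (SpecialLinearGroup.map σ (_root_.Matrix.SpecialLinearGroup.transvection hij a))⁻¹.transpose = _
  rw [h1, transvection_inv]
  apply Subtype.ext
  show Matrix.transpose (1 + single i j (-σ a)) = 1 + single j i (-σ a)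
  rw [Matrix.transpose_add, Matrix.transpose_one, Matrix.transpose_single]

/-- minus the antidiagonal matrix -/
def nj (E : Type v) [Field E] : _root_.Matrix.SpecialLinearGroup (Fin 3) E :=
  ⟨!![0, 0, -1; 0, -1, 0; -1, 0, 0], by
    rw [Matrix.det_fin_three]
    simp⟩

theorem nj_e : (nj E).1 0 0 = 0 ∧ (nj E).1 0 1 = 0 ∧ (nj E).1 0 2 = -1 ∧ (nj E).1 1 0 = 0 ∧ (nj E).1 1 1 = -1 ∧
    (nj E).1 1 2 = 0 ∧ (nj E).1 2 0 = -1 ∧ (nj E).1 2 1 = 0 ∧ (nj E).1 2 2 = 0 :=
  ⟨rfl, rfl, rfl, rfl, rfl, rfl, rfl, rfl, rfl⟩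

theorem mul_nj (M : Matrix (Fin 3) (Fin 3) E) (i j : Fin 3) : (M * (nj E).1) i j = - M i (2 - j) := by
  obtain ⟨h1, h2, h3, h4, h5, h6, h7, h8, h9⟩ := nj_e (E := E)
  rw [Matrix.mul_apply, Fin.sum_univ_three]
  fin_cases j <;> simp [h1, h2, h3, h4, h5, h6, h7, h8, h9]

theorem nj_mul (M : Matrix (Fin 3) (Fin 3) E) (i j : Fin 3) : ((nj E).1 * M) i j = - M (2 - i) j := by
  obtain ⟨h1, h2, h3, h4, h5, h6, h7, h8, h9⟩ := nj_e (E := E)
  rw [Matrix.mul_apply, Fin.sum_univ_three]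
  fin_cases i <;> simp [h1, h2, h3, h4, h5, h6, h7, h8, h9]

theorem nj_apply (i j : Fin 3) : (nj E).1 i j = if j = 2 - i then -1 else 0 := by
  fin_cases i <;> fin_cases j <;> rfl

theorem nj_mul_nj : nj E * nj E = 1 := by
  apply Subtype.ext
  rw [coe_mul, coe_one]
  show (nj E).1 * (nj E).1 = 1
  ext i j
  rw [mul_nj, nj_apply, Matrix.one_apply]
  (revert i j; simp only [_root_.Fin.forall_fin_succ, Fin.isValue, _root_.sub_right_inj, _root_.Fin.succ_zero_eq_one, _root_.Fin.succ_one_eq_two, _root_.IsEmpty.forall_iff, _root_.and_true, ↓reduceIte, _root_.neg_neg, _root_.one_ne_zero, _root_.neg_zero, _root_.zero_ne_one, Fin.reduceEq, _root_.and_self, _root_.Fin.succ_ne_zero, _root_.neg_eq_zero, _root_.ite_eq_right_iff, _root_.imp_false, _root_.not_false_eq_true])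

theorem nj_inv : (nj E)⁻¹ = nj E := inv_eq_of_mul_eq_one_right nj_mul_nj

/-- the twisted endomorphism -/
def stJ (σ : E →+* E) : _root_.Matrix.SpecialLinearGroup (Fin 3) E →* _root_.Matrix.SpecialLinearGroup (Fin 3) E :=
  (MulAut.conj (nj E)).toMonoidHom.comp (st σ)

theorem stJ_apply (σ : E →+* E) (A : _root_.Matrix.SpecialLinearGroup (Fin 3) E) : stJ σ A = nj E * st σ A * nj E := by
  show nj E * st σ A * (nj E)⁻¹ = _
  rw [nj_inv]

theorem stJ_transvection (σ : E →+* E) : ∀ {i j : Fin 3} (hij : i ≠ j) (hij' : 2 - j ≠ 2 - i) (a : E),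
    stJ σ (_root_.Matrix.SpecialLinearGroup.transvection hij a) = _root_.Matrix.SpecialLinearGroup.transvection hij' (-σ a) := by
  intro i j hij hij' a
  rw [stJ_apply, st_transvection]
  apply Subtype.ext
  show (nj E).1 * (1 + single j i (-σ a)) * (nj E).1 = 1 + single (2 - j) (2 - i) (-σ a)
  ext x y
  rw [mul_nj, nj_mul, neg_neg, Matrix.add_apply, Matrix.add_apply, Matrix.one_apply, Matrix.one_apply,
    Matrix.single_apply, Matrix.single_apply]
  congr 1
  · revert x y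
    intro x y
    fin_cases x <;> fin_cases y <;> rfl
  · have h : (j = 2 - x ∧ i = 2 - y) ↔ (2 - j = x ∧ 2 - i = y) := by
      revert i j x y
      intro i j
      fin_cases i <;> fin_cases j <;> intro _ _ x y <;> fin_cases x <;> fin_cases y <;> simp
    simp only [h]

/-- `SU₃` for the antidiagonal form -/
def SUJ (σ : E →+* E) : Subgroup (_root_.Matrix.SpecialLinearGroup (Fin 3) E) := MonoidHom.eqLocus (stJ σ) (MonoidHom.id _)

variable {σ : E →+* E}

theorem mem_SUJ {A : _root_.Matrix.SpecialLinearGroup (Fin 3) E} : A ∈ SUJ σ ↔ stJ σ A = A := Iff.rfl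

/-- the matrix equation -/
theorem mem_SUJ_iff {A : _root_.Matrix.SpecialLinearGroup (Fin 3) E} :
    A ∈ SUJ σ ↔ A.1 * (nj E).1 * (A.1.map σ)ᵀ = (nj E).1 := by
  rw [mem_SUJ, stJ_apply]
  have h1 : (SpecialLinearGroup.map σ A).transpose * st σ A = 1 := by
    apply Subtype.ext
    rw [coe_mul, coe_one]
    show ((SpecialLinearGroup.map σ A).1)ᵀ * ((SpecialLinearGroup.map σ A)⁻¹.1)ᵀ = 1
    rw [← Matrix.transpose_mul, ← coe_mul, inv_mul_cancel, coe_one, Matrix.transpose_one]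
  have h2 : st σ A = ((SpecialLinearGroup.map σ A).transpose)⁻¹ := (inv_eq_of_mul_eq_one_right h1).symm
  have h3 : nj E * st σ A * nj E = A ↔ A * nj E * (SpecialLinearGroup.map σ A).transpose = nj E := by
    rw [h2]
    constructor
    · intro h
      have h4 : A * nj E = nj E * ((SpecialLinearGroup.map σ A).transpose)⁻¹ := by
        rw [← h, mul_assoc _ (nj E) (nj E), nj_mul_nj, mul_one]
        congr 2
        rw [h]
      rw [h4, inv_mul_cancel_right]
    · intro h
      have h4 : A * nj E = nj E * ((SpecialLinearGroup.map σ A).transpose)⁻¹ := by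
        rw [eq_mul_inv_iff_mul_eq, h]
      rw [← h4, mul_assoc, nj_mul_nj, mul_one]
  rw [h3]
  constructor
  · intro h
    exact congrArg Subtype.val h
  · intro h
    exact Subtype.ext h

end Star

/-! ### The subgroups -/

section Sub
variable {E : Type v} [Field E] {σ : E →+* E}

/-- the entries of a matrix in `SUJ` -/
theorem row_eq {A : _root_.Matrix.SpecialLinearGroup (Fin 3) E} (hA : A ∈ SUJ σ) (i j : Fin 3) :
    A.1 i 0 * σ (A.1 j 2) + A.1 i 1 * σ (A.1 j 1) + A.1 i 2 * σ (A.1 j 0) = - (nj E).1 i j := by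
  have h := congrFun (congrFun (mem_SUJ_iff.1 hA) i) j
  rw [← h, Matrix.mul_apply, Fin.sum_univ_three]
  simp only [mul_nj, Matrix.map_apply, Matrix.transpose_apply]
  show _ = -(-A.1 i 2 * σ (A.1 j 0) + -A.1 i 1 * σ (A.1 j 1) + -A.1 i 0 * σ (A.1 j 2))
  ring

theorem nj_mem : nj E ∈ SUJ σ := by
  have h : st σ (nj E) = nj E := by
    have h1 : SpecialLinearGroup.map σ (nj E) = nj E := by
      apply Subtype.ext
      show (nj E).1.map σ = (nj E).1
      ext i j
      rw [Matrix.map_apply, nj_apply]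
      split_ifs <;> simp only [_root_.map_neg, _root_.map_one, _root_.map_zero]
    show (SpecialLinearGroup.map σ (nj E))⁻¹.transpose = nj E
    rw [h1, nj_inv]
    apply Subtype.ext
    show ((nj E).1)ᵀ = (nj E).1
    ext i j
    rw [Matrix.transpose_apply, nj_apply, nj_apply]
    fin_cases i <;> fin_cases j <;> rfl
  rw [mem_SUJ, stJ_apply, h, nj_mul_nj, one_mul]

/-- upper unitriangular -/
def IsU (A : Matrix (Fin 3) (Fin 3) E) : Prop :=
  A 1 0 = 0 ∧ A 2 0 = 0 ∧ A 2 1 = 0 ∧ A 0 0 = 1 ∧ A 1 1 = 1 ∧ A 2 2 = 1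

/-- diagonal -/
def IsD (A : Matrix (Fin 3) (Fin 3) E) : Prop :=
  A 1 0 = 0 ∧ A 2 0 = 0 ∧ A 2 1 = 0 ∧ A 0 1 = 0 ∧ A 0 2 = 0 ∧ A 1 2 = 0

theorem isU_one : IsU (1 : Matrix (Fin 3) (Fin 3) E) := by simp [IsU]

theorem IsU.mul {A B : Matrix (Fin 3) (Fin 3) E} (hA : IsU A) (hB : IsU B) : IsU (A * B) := by
  obtain ⟨a1, a2, a3, a4, a5, a6⟩ := hA
  obtain ⟨b1, b2, b3, b4, b5, b6⟩ := hB
  simp only [IsU, Matrix.mul_apply, Fin.sum_univ_three, a1, a2, a3, a4, a5, a6, b1, b2, b3, b4, b5, b6, _root_.Fin.isValue, _root_.mul_one, _root_.MulZeroClass.mul_zero, _root_.add_zero, _root_.MulZeroClass.zero_mul, _root_.zero_add, _root_.and_self]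

theorem IsU.inv {A : _root_.Matrix.SpecialLinearGroup (Fin 3) E} (hA : IsU A.1) : IsU (A⁻¹).1 := by
  obtain ⟨a1, a2, a3, a4, a5, a6⟩ := hA
  have h : (A⁻¹).1 = A.1.adjugate := coe_inv A
  rw [h, Matrix.adjugate_fin_three]
  simp [IsU, a1, a2, a3, a4, a5, a6]

theorem isD_one : IsD (1 : Matrix (Fin 3) (Fin 3) E) := by simp [IsD]

theorem IsD.mul {A B : Matrix (Fin 3) (Fin 3) E} (hA : IsD A) (hB : IsD B) : IsD (A * B) := by
  obtain ⟨a1, a2, a3, a4, a5, a6⟩ := hA
  obtain ⟨b1, b2, b3, b4, b5, b6⟩ := hB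
  simp only [IsD, Matrix.mul_apply, Fin.sum_univ_three, a1, a2, a3, a4, a5, a6, b1, b2, b3, b4, b5, b6, _root_.Fin.isValue, _root_.MulZeroClass.zero_mul, _root_.MulZeroClass.mul_zero, _root_.add_zero, _root_.and_self]

theorem IsD.inv {A : _root_.Matrix.SpecialLinearGroup (Fin 3) E} (hA : IsD A.1) : IsD (A⁻¹).1 := by
  obtain ⟨a1, a2, a3, a4, a5, a6⟩ := hA
  have h : (A⁻¹).1 = A.1.adjugate := coe_inv A
  rw [h, Matrix.adjugate_fin_three]
  simp [IsD, a1, a2, a3, a4, a5, a6]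

variable (σ) in
/-- the unipotent radical of the Borel subgroup -/
def U : Subgroup (SUJ σ) where
  carrier := {A | IsU A.1.1}
  mul_mem' ha hb := ha.mul hb
  one_mem' := isU_one
  inv_mem' ha := IsU.inv ha

variable (σ) in
/-- the torus -/
def C : Subgroup (SUJ σ) where
  carrier := {A | IsD A.1.1}
  mul_mem' ha hb := ha.mul hb
  one_mem' := isD_one
  inv_mem' ha := IsD.inv ha

variable (σ) in
/-- the centre of `U` -/
def Z : Subgroup (SUJ σ) where
  carrier := {A | IsU A.1.1 ∧ A.1.1 0 1 = 0 ∧ A.1.1 1 2 = 0}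
  mul_mem' {a b} ha hb := by
    refine ⟨ha.1.mul hb.1, ?_, ?_⟩
    · show (a.1.1 * b.1.1) 0 1 = 0
      obtain ⟨a1, a2, a3, a4, a5, a6⟩ := ha.1
      obtain ⟨b1, b2, b3, b4, b5, b6⟩ := hb.1
      simp only [Matrix.mul_apply, Fin.sum_univ_three, ha.2.1, hb.2.1, b3, _root_.Fin.isValue, _root_.MulZeroClass.mul_zero, _root_.MulZeroClass.zero_mul, _root_.add_zero]
    · show (a.1.1 * b.1.1) 1 2 = 0
      obtain ⟨a1, a2, a3, a4, a5, a6⟩ := ha.1
      obtain ⟨b1, b2, b3, b4, b5, b6⟩ := hb.1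
      simp only [Matrix.mul_apply, Fin.sum_univ_three, ha.2.2, hb.2.2, a1, _root_.Fin.isValue, _root_.MulZeroClass.zero_mul, _root_.MulZeroClass.mul_zero, _root_.add_zero]
  one_mem' := ⟨isU_one, by simp only [_root_.OneMemClass.coe_one, _root_.Fin.isValue, _root_.Matrix.SpecialLinearGroup.coe_one, _root_.ne_eq, _root_.zero_ne_one, _root_.not_false_eq_true, _root_.Matrix.one_apply_ne], by simp⟩
  inv_mem' {a} ha := by
    refine ⟨IsU.inv ha.1, ?_, ?_⟩
    · obtain ⟨a1, a2, a3, a4, a5, a6⟩ := ha.1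
      have h : (a.1⁻¹).1 = a.1.1.adjugate := coe_inv a.1
      show (a.1⁻¹).1 0 1 = 0
      rw [h, Matrix.adjugate_fin_three]
      simp only [ha.2.1, a3, _root_.Fin.isValue, _root_.MulZeroClass.mul_zero, _root_.sub_zero, _root_.MulZeroClass.zero_mul, _root_.neg_zero, _root_.add_zero, _root_.zero_sub, _root_.Matrix.of_apply, _root_.Matrix.cons_val', _root_.Matrix.cons_val_one, _root_.Matrix.cons_val_zero, _root_.Matrix.cons_val_fin_one]
    · obtain ⟨a1, a2, a3, a4, a5, a6⟩ := ha.1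
      have h : (a.1⁻¹).1 = a.1.1.adjugate := coe_inv a.1
      show (a.1⁻¹).1 1 2 = 0
      rw [h, Matrix.adjugate_fin_three]
      simp only [ha.2.2, a1, _root_.Fin.isValue, _root_.MulZeroClass.zero_mul, _root_.sub_zero, _root_.MulZeroClass.mul_zero, _root_.zero_sub, _root_.neg_zero, _root_.add_zero, _root_.Matrix.of_apply, _root_.Matrix.cons_val', _root_.Matrix.cons_val, _root_.Matrix.cons_val_fin_one, _root_.Matrix.cons_val_one, _root_.Matrix.cons_val_zero]

theorem mem_U {A : SUJ σ} : A ∈ U σ ↔ IsU A.1.1 := Iff.rfl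
theorem mem_C {A : SUJ σ} : A ∈ C σ ↔ IsD A.1.1 := Iff.rfl
theorem Z_le_U : Z σ ≤ U σ := fun _ h => h.1

/-- the Weyl element -/
def nn (σ : E →+* E) : SUJ σ := ⟨nj E, nj_mem⟩

theorem nn_mul_nn : nn σ * nn σ = 1 := Subtype.ext nj_mul_nj
theorem nn_inv : (nn σ)⁻¹ = nn σ := inv_eq_of_mul_eq_one_right nn_mul_nn

theorem C_comm {a b : SUJ σ} (ha : a ∈ C σ) (hb : b ∈ C σ) : a * b = b * a := by
  apply Subtype.ext
  apply Subtype.ext
  show a.1.1 * b.1.1 = b.1.1 * a.1.1
  obtain ⟨a1, a2, a3, a4, a5, a6⟩ := mem_C.1 ha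
  obtain ⟨b1, b2, b3, b4, b5, b6⟩ := mem_C.1 hb
  ext i j
  (revert i j; simp only [Matrix.mul_apply, Fin.sum_univ_three, a1, a2, a3, a4, a5, a6, b1, b2, b3, b4, b5, b6, mul_comm, _root_.Fin.forall_fin_succ, Fin.isValue, _root_.MulZeroClass.zero_mul, _root_.add_zero, _root_.Fin.succ_zero_eq_one, _root_.zero_add, _root_.Fin.succ_one_eq_two, _root_.IsEmpty.forall_iff, _root_.and_true, _root_.and_self])

theorem nn_C {a : SUJ σ} (ha : a ∈ C σ) : nn σ * a * (nn σ)⁻¹ ∈ C σ := by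
  rw [nn_inv, mem_C]
  show IsD ((nj E).1 * a.1.1 * (nj E).1)
  obtain ⟨a1, a2, a3, a4, a5, a6⟩ := mem_C.1 ha
  have h : ∀ i j, ((nj E).1 * a.1.1 * (nj E).1) i j = a.1.1 (2 - i) (2 - j) := by
    intro i j
    rw [mul_nj, nj_mul, neg_neg]
  refine ⟨?_, ?_, ?_, ?_, ?_, ?_⟩ <;> rw [h]
  · exact a6
  · exact a5
  · exact a4
  · exact a3
  · exact a2
  · exact a1

theorem C_U {c u : SUJ σ} (hc : c ∈ C σ) (hu : u ∈ U σ) : c * u * c⁻¹ ∈ U σ := by
  rw [mem_U]
  show IsU (c.1.1 * u.1.1 * (c.1⁻¹).1)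
  have h : (c.1⁻¹).1 = c.1.1.adjugate := coe_inv c.1
  have hdet := c.1.2
  rw [Matrix.det_fin_three] at hdet
  obtain ⟨a1, a2, a3, a4, a5, a6⟩ := mem_C.1 hc
  obtain ⟨b1, b2, b3, b4, b5, b6⟩ := mem_U.1 hu
  have h2 : c.1.1 0 0 * c.1.1 1 1 * c.1.1 2 2 = 1 := by
    rw [a1, a2, a3] at hdet
    linear_combination hdet
  rw [h, Matrix.adjugate_fin_three]
  simp only [IsU, Matrix.mul_apply, Fin.sum_univ_three, a1, a2, a3, a4, a5, a6, b1, b2, b3, b4, b5, b6, _root_.Fin.isValue, _root_.MulZeroClass.mul_zero, _root_.sub_zero, _root_.MulZeroClass.zero_mul, _root_.neg_zero, _root_.add_zero, _root_.sub_self, _root_.zero_add, _root_.Matrix.of_apply, _root_.Matrix.cons_val', _root_.Matrix.cons_val_zero, _root_.Matrix.cons_val_fin_one, _root_.mul_one, _root_.Matrix.cons_val_one, _root_.Matrix.cons_val, _root_.true_and]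
  refine ⟨?_, ?_, ?_⟩ <;> linear_combination h2

/-- diagonal elements of `SUJ` -/
theorem exists_diag {x y z : E} (h1 : x * y * z = 1) (h2 : x * σ z = 1) (h3 : y * σ y = 1) (h4 : z * σ x = 1) :
    ∃ c ∈ C σ, c.1.1 0 0 = x ∧ c.1.1 1 1 = y ∧ c.1.1 2 2 = z := by
  let c0 : _root_.Matrix.SpecialLinearGroup (Fin 3) E := ⟨!![x, 0, 0; 0, y, 0; 0, 0, z], by
    rw [Matrix.det_fin_three]
    simp [h1]⟩
  have e : c0.1 0 0 = x ∧ c0.1 0 1 = 0 ∧ c0.1 0 2 = 0 ∧ c0.1 1 0 = 0 ∧ c0.1 1 1 = y ∧ c0.1 1 2 = 0 ∧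
      c0.1 2 0 = 0 ∧ c0.1 2 1 = 0 ∧ c0.1 2 2 = z := ⟨rfl, rfl, rfl, rfl, rfl, rfl, rfl, rfl, rfl⟩
  obtain ⟨e1, e2, e3, e4, e5, e6, e7, e8, e9⟩ := e
  have hc : c0 ∈ SUJ σ := by
    rw [mem_SUJ_iff]
    ext i j
    rw [Matrix.mul_apply, Fin.sum_univ_three, nj_apply]
    simp only [mul_nj, Matrix.map_apply, Matrix.transpose_apply]
    show -c0.1 i 2 * σ (c0.1 j 0) + -c0.1 i 1 * σ (c0.1 j 1) + -c0.1 i 0 * σ (c0.1 j 2) = _
    (revert i j; simp only [e1, e2, e3, e4, e5, e6, e7, e8, e9, h2, h3, h4, _root_.Fin.forall_fin_succ, Fin.isValue, _root_.neg_mul, _root_.map_zero, _root_.MulZeroClass.mul_zero, _root_.neg_zero, _root_.add_zero, _root_.Fin.succ_zero_eq_one, _root_.zero_add, _root_.Fin.succ_one_eq_two, _root_.IsEmpty.forall_iff, _root_.and_true, _root_.MulZeroClass.zero_mul, _root_.sub_zero, Fin.reduceEq, ↓reduceIte, _root_.and_self, Fin.reduceSub, _root_.zero_ne_one, _root_.sub_self, _root_.one_ne_zero])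
  exact ⟨⟨c0, hc⟩, ⟨rfl, rfl, rfl, rfl, rfl, rfl⟩, rfl, rfl, rfl⟩

/-- upper triangular elements -/
theorem of_zero {A : SUJ σ} (h : A.1.1 2 0 = 0) : ∃ v ∈ U σ, ∃ c ∈ C σ, A = v * c := by
  have hdet := A.1.2
  rw [Matrix.det_fin_three] at hdet
  have r22 := row_eq A.2 2 2
  have r12 := row_eq A.2 1 2
  have r02 := row_eq A.2 0 2
  have r20 := row_eq A.2 2 0
  have r11 := row_eq A.2 1 1
  rw [nj_apply, if_neg (by decide), neg_zero, h, map_zero, zero_mul, mul_zero, zero_add, add_zero] at r22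
  have h21 : A.1.1 2 1 = 0 := by
    rcases mul_eq_zero.1 r22 with h1 | h1
    · exact h1
    · exact (map_eq_zero σ).1 h1
  rw [nj_apply, if_neg (by decide), neg_zero, h, h21, map_zero, mul_zero, mul_zero, add_zero, add_zero] at r12
  have h22 : A.1.1 2 2 ≠ 0 := by
    intro h22
    rw [h, h21, h22] at hdet
    simp only [_root_.Fin.isValue, _root_.MulZeroClass.mul_zero, _root_.sub_self, _root_.add_zero, _root_.zero_ne_one] at hdet
  have h10 : A.1.1 1 0 = 0 := by
    rcases mul_eq_zero.1 r12 with h1 | h1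
    · exact h1
    · exact absurd ((map_eq_zero σ).1 h1) h22
  rw [h, h21, h10] at hdet
  rw [nj_apply, if_pos (by decide), neg_neg, h, h21, map_zero, mul_zero, mul_zero, add_zero, add_zero] at r02
  rw [nj_apply, if_pos (by decide), neg_neg, h, h21, zero_mul, zero_mul, zero_add, zero_add] at r20
  rw [nj_apply, if_pos (by decide), neg_neg, h10, zero_mul, map_zero, mul_zero, zero_add, add_zero] at r11
  obtain ⟨c, hc, c0, c1, c2⟩ := exists_diag (σ := σ) (x := A.1.1 0 0) (y := A.1.1 1 1) (z := A.1.1 2 2)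
    (by linear_combination hdet) r02 r11 r20
  refine ⟨A * c⁻¹, ?_, c, hc, by group⟩
  rw [mem_U]
  show IsU (A.1.1 * (c.1⁻¹).1)
  have hh : (c.1⁻¹).1 = c.1.1.adjugate := coe_inv c.1
  obtain ⟨a1, a2, a3, a4, a5, a6⟩ := mem_C.1 hc
  rw [hh, Matrix.adjugate_fin_three]
  simp only [IsU, Matrix.mul_apply, Fin.sum_univ_three, a1, a2, a3, a4, a5, a6, h, h21, h10, c0, c1, c2, _root_.Fin.isValue, _root_.MulZeroClass.mul_zero, _root_.sub_zero, _root_.MulZeroClass.zero_mul, _root_.neg_zero, _root_.add_zero, _root_.sub_self, _root_.Matrix.of_apply, _root_.Matrix.cons_val', _root_.Matrix.cons_val_zero, _root_.Matrix.cons_val_fin_one, _root_.Matrix.cons_val_one, _root_.Matrix.cons_val, _root_.zero_add, _root_.true_and]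
  refine ⟨?_, ?_, ?_⟩ <;> linear_combination hdet

/-- the elements of `U` -/
theorem exists_uu (hσ : ∀ x, σ (σ x) = x) {a b : E} (h : b + σ b + a * σ a = 0) :
    ∃ u ∈ U σ, u.1.1 0 1 = a ∧ u.1.1 0 2 = b ∧ u.1.1 1 2 = -σ a := by
  let c0 : _root_.Matrix.SpecialLinearGroup (Fin 3) E := ⟨!![1, a, b; 0, 1, -σ a; 0, 0, 1], by
    rw [Matrix.det_fin_three]
    simp⟩
  have e : c0.1 0 0 = 1 ∧ c0.1 0 1 = a ∧ c0.1 0 2 = b ∧ c0.1 1 0 = 0 ∧ c0.1 1 1 = 1 ∧ c0.1 1 2 = -σ a ∧
      c0.1 2 0 = 0 ∧ c0.1 2 1 = 0 ∧ c0.1 2 2 = 1 := ⟨rfl, rfl, rfl, rfl, rfl, rfl, rfl, rfl, rfl⟩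
  obtain ⟨e1, e2, e3, e4, e5, e6, e7, e8, e9⟩ := e
  have hc : c0 ∈ SUJ σ := by
    rw [mem_SUJ_iff]
    ext i j
    rw [Matrix.mul_apply, Fin.sum_univ_three, nj_apply]
    simp only [mul_nj, Matrix.map_apply, Matrix.transpose_apply]
    show -c0.1 i 2 * σ (c0.1 j 0) + -c0.1 i 1 * σ (c0.1 j 1) + -c0.1 i 0 * σ (c0.1 j 2) = _
    (revert i j; simp only [e1, e2, e3, e4, e5, e6, e7, e8, e9, hσ, _root_.Fin.forall_fin_succ, Fin.isValue, _root_.neg_mul, _root_.map_one, _root_.mul_one, _root_.Fin.succ_zero_eq_one, _root_.map_zero, _root_.MulZeroClass.mul_zero, _root_.neg_zero, _root_.zero_add, _root_.map_neg, _root_.mul_neg, _root_.neg_neg, _root_.Fin.succ_one_eq_two, _root_.add_zero, _root_.IsEmpty.forall_iff, _root_.one_mul, _root_.sub_zero, Fin.reduceEq, ↓reduceIte, _root_.neg_add_cancel, _root_.add_neg_cancel, _root_.MulZeroClass.zero_mul, Fin.reduceSub, _root_.zero_ne_one, _root_.sub_self, _root_.one_ne_zero, _root_.and_true, _root_.true_and])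 <;> (repeat' with_reducible apply And.intro)
    · linear_combination -h
  exact ⟨⟨c0, hc⟩, ⟨rfl, rfl, rfl, rfl, rfl, rfl⟩, rfl, rfl, rfl⟩

/-- the entries of the elements of `U` -/
theorem U_entries {u : SUJ σ} (hu : u ∈ U σ) :
    u.1.1 1 2 = -σ (u.1.1 0 1) ∧ u.1.1 0 2 + σ (u.1.1 0 2) + u.1.1 0 1 * σ (u.1.1 0 1) = 0 := by
  obtain ⟨a1, a2, a3, a4, a5, a6⟩ := mem_U.1 hu
  have r10 := row_eq u.2 1 0
  have r00 := row_eq u.2 0 0
  rw [nj_apply, if_neg (by decide), neg_zero, a1, a5, a4, map_one] at r10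
  rw [nj_apply, if_neg (by decide), neg_zero, a4, map_one] at r00
  constructor
  · linear_combination r10
  · linear_combination r00

/-- **Bruhat decomposition** -/
theorem bruhat (hσ : ∀ x, σ (σ x) = x) (A : SUJ σ) : (∃ v ∈ U σ, ∃ c ∈ C σ, A = v * c) ∨
    ∃ v ∈ U σ, ∃ c ∈ C σ, ∃ u ∈ U σ, A = v * c * nn σ * u := by
  by_cases h : A.1.1 2 0 = 0
  · exact Or.inl (of_zero h)
  right
  have hc : σ (A.1.1 2 0) ≠ 0 := fun h1 => h ((map_eq_zero σ).1 h1)
  have r22 := row_eq A.2 2 2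
  rw [nj_apply, if_neg (by decide), neg_zero] at r22
  obtain ⟨u, hu, u1, u2, u3⟩ := exists_uu hσ (a := -A.1.1 2 1 / A.1.1 2 0)
    (b := (A.1.1 2 1 * (-σ (A.1.1 2 1) / σ (A.1.1 2 0)) - A.1.1 2 2) / A.1.1 2 0) (by
      rw [map_div₀, map_sub, map_mul, map_div₀, map_div₀, map_neg, map_neg, hσ, hσ]
      field_simp
      linear_combination -r22)
  obtain ⟨a1, a2, a3, a4, a5, a6⟩ := mem_U.1 hu
  obtain ⟨v, hv, c, hc', e⟩ := of_zero (A := A * u * nn σ) (by
    show (A.1.1 * u.1.1 * (nj E).1) 2 0 = 0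
    rw [mul_nj]
    show -(A.1.1 * u.1.1) 2 2 = 0
    rw [Matrix.mul_apply, Fin.sum_univ_three, u2, u3, a6, map_div₀, map_neg]
    field_simp
    ring)
  refine ⟨v, hv, c, hc', u⁻¹, (U σ).inv_mem hu, ?_⟩
  rw [← e, mul_assoc (A * u), nn_mul_nn]
  group

end Sub

end Cfsg.Agent.H992.E8X.Su3
end

-- part: H992/E8X/Hom
section
/-!
# The homomorphism `SU₃(u⁴) → E₈(k)^σ` (helper992)
-/

set_option autoImplicit false

namespace Cfsg.Agent.H992.E8X

open Cfsg Cfsg.Lie Cfsg.Agent.ChevalleyStructure Cfsg.Agent.ChevalleyStructure.Elts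
open Cfsg.Agent.BpExc.FamUntw (phi)
open Cfsg.Agent.AGraded
open Matrix Matrix.SpecialLinearGroup
open Cfsg.Agent.H992.E8X.Su3 (st stJ SUJ stJ_transvection)
open scoped commutatorElement

universe u v

section Pi
variable {k : Type u} [Field k] {E : Type v} [Field E] (f : E →+* k)

/-- the root elements of the subsystem -/
def x1 (i j : Fin 3) (a : E) : ↥(chevE8.group k) := X (rt i j) ((sn i j : k) * f a)

theorem sn_sq : ∀ i j : Fin 3, i ≠ j → sn i j * sn i j = 1 := by decide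

theorem sn_sq' {i j : Fin 3} (h : i ≠ j) : (sn i j : k) * (sn i j : k) = 1 := by
  rw [← Int.cast_mul, sn_sq i j h, Int.cast_one]

theorem steinRel : SteinRel (x1 f) where
  add i j _ a b := by
    show X _ _ = X _ _ * X _ _
    rw [X_add, map_add, mul_add]
  comm i j l m hij hlm hjl him a b :=
    X_commute (rt_lt l m) (rt_lt i j) (rt_comm i j l m hij hlm hjl him) _ _
  br i j l hij hjl hil a b := by
    show ⁅X _ _, X _ _⁆ = X _ _
    rw [X_br (rt_lt j l) (rt_lt i j) (rt_lt i l) (rt_br i j l hij hjl hil), bc]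
    congr 1
    push_cast
    rw [map_mul]
    have h1 := sn_sq' (k := k) hij
    have h2 := sn_sq' (k := k) hjl
    linear_combination ((sn i l : k) * f a * f b * (sn j l : k) * (sn j l : k)) * h1 +
      ((sn i l : k) * f a * f b) * h2

theorem exists_pi [Finite E] : ∃ π : _root_.Matrix.SpecialLinearGroup (Fin 3) E →* ↥(chevE8.group k),
    (∀ i j (hij : i ≠ j) a, π (_root_.Matrix.SpecialLinearGroup.transvection hij a) = X (rt i j) ((sn i j : k) * f a)) ∧
    π.range = Subgroup.closure (gens (x1 f)) ∧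
      π.ker ≤ Subgroup.center (_root_.Matrix.SpecialLinearGroup (Fin 3) E) := by
  obtain ⟨π, h1, h2, h3⟩ := exists_hom_core (steinRel f) (by rw [Fintype.card_fin])
    fun _ _ hy hygen _ _ hφ _ _ => Cfsg.Agent.H135.KTwo.ker_eq_bot_fin hy (le_refl 2) hygen hφ
  refine ⟨π, h1, h2, h3 ⟨0, 1, by decide, 1, fun h => ?_⟩⟩
  have h4 := X_eq_one (rt_lt 0 1) h
  rw [map_one, mul_one] at h4
  have h5 := sn_sq' (k := k) (show (0 : Fin 3) ≠ 1 by decide)
  rw [h4, mul_zero] at h5
  exact zero_ne_one h5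

end Pi

section L
open Subgroup
variable {k : Type u} [Field k]

variable (k) in
/-- the subgroup of the subsystem -/
def L : Subgroup ↥(chevE8.group k) := _root_.Subgroup.closure {g | ∃ i j, i ≠ j ∧ ∃ t, g = X (rt i j) t}

theorem X_mem_L {i j : Fin 3} (h : i ≠ j) (t : k) : X (rt i j) t ∈ L k :=
  subset_closure ⟨i, j, h, t, rfl⟩

variable {p : ℕ} [Fact p.Prime] [CharP k p] [PerfectRing k p] {n : ℕ}

theorem L_comm {s : ℕ} (hs : s ∈ [1, 2, 3]) {x y : ↥(chevE8.group k)} (hx : x ∈ L k) (hy : y ∈ L k) :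
    Commute x ((sig k p n ^ s) y) := by
  have h1 : L k ≤ (centralizer (L k : Set ↥(chevE8.group k))).comap (sig k p n ^ s).toMonoidHom := by
    refine (closure_le _).2 ?_
    rintro _ ⟨i, j, hij, t, rfl⟩
    show (sig k p n ^ s) (X (rt i j) t) ∈ centralizer (L k : Set ↥(chevE8.group k))
    have h2 : L k ≤ centralizer {(sig k p n ^ s) (X (rt i j) t)} := by
      refine (closure_le _).2 ?_
      rintro _ ⟨i', j', hij', t', rfl⟩
      rw [SetLike.mem_coe, mem_centralizer_singleton_iff]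
      have h3 := sig_commute (k := k) (p := p) (n := n) (r := rt i j) (s := rt i' j') (rt_lt i j) (rt_lt i' j')
        (i := s) (j := 0) (rt_cross i j i' j' s hs hij hij') t t'
      rw [pow_zero, MulAut.one_apply] at h3
      exact h3.eq
    rw [mem_centralizer_iff]
    intro z hz
    exact mem_centralizer_singleton_iff.1 (h2 hz)
  exact (mem_centralizer_iff.1 (mem_comap.1 (h1 hy))) x hx

variable {E : Type v} [Field E] {π : _root_.Matrix.SpecialLinearGroup (Fin 3) E →* ↥(chevE8.group k)}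

theorem rearr4 {G : Type*} [Group G] {a0 a1 a2 a3 b0 b1 b2 b3 : G} (h1 : Commute a1 b0)
    (h2 : Commute a2 (b0 * b1)) (h3 : Commute a3 (b0 * b1 * b2)) :
    (a0 * b0) * (a1 * b1) * (a2 * b2) * (a3 * b3) = (a0 * a1 * a2 * a3) * (b0 * b1 * b2 * b3) := by
  have e1 : (a0 * b0) * (a1 * b1) = (a0 * a1) * (b0 * b1) := by
    calc (a0 * b0) * (a1 * b1) = a0 * (b0 * a1) * b1 := by group
      _ = a0 * (a1 * b0) * b1 := by rw [h1.eq]
      _ = _ := by group
  have e2 : (a0 * a1) * (b0 * b1) * (a2 * b2) = (a0 * a1 * a2) * (b0 * b1 * b2) := by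
    calc (a0 * a1) * (b0 * b1) * (a2 * b2) = (a0 * a1) * ((b0 * b1) * a2) * b2 := by group
      _ = (a0 * a1) * (a2 * (b0 * b1)) * b2 := by rw [h2.eq]
      _ = _ := by group
  rw [e1, e2]
  calc (a0 * a1 * a2) * (b0 * b1 * b2) * (a3 * b3) = (a0 * a1 * a2) * ((b0 * b1 * b2) * a3) * b3 := by group
    _ = (a0 * a1 * a2) * (a3 * (b0 * b1 * b2)) * b3 := by rw [h3.eq]
    _ = _ := by group

variable (k p n) in
/-- the product over half an orbit -/
noncomputable def P4 (g : ↥(chevE8.group k)) : ↥(chevE8.group k) :=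
  g * (sig k p n ^ 1) g * (sig k p n ^ 2) g * (sig k p n ^ 3) g

theorem L_comm' {i j : ℕ} (hij : i < j) (hj : j < 4) {x y : ↥(chevE8.group k)} (hx : x ∈ L k) (hy : y ∈ L k) :
    Commute ((sig k p n ^ i) x) ((sig k p n ^ j) y) := by
  have h := L_comm (p := p) (n := n) (s := j - i) (by
    have : j - i = 1 ∨ j - i = 2 ∨ j - i = 3 := by omega
    rcases this with h | h | h <;> rw [h] <;> simp) hx hy
  have h2 := h.map (sig k p n ^ i).toMonoidHom
  show Commute ((sig k p n ^ i) x) ((sig k p n ^ j) y)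
  have h3 : (sig k p n ^ j) y = (sig k p n ^ i) ((sig k p n ^ (j - i)) y) := by
    rw [← MulAut.mul_apply, ← pow_add]
    congr 2
    omega
  rw [h3]
  exact h2

theorem P4_mul {x y : ↥(chevE8.group k)} (hx : x ∈ L k) (hy : y ∈ L k) :
    P4 k p n (x * y) = P4 k p n x * P4 k p n y := by
  unfold P4
  rw [map_mul, map_mul, map_mul]
  have e0 : ∀ z : ↥(chevE8.group k), z = (sig k p n ^ 0) z := fun z => by rw [pow_zero]; rfl
  refine rearr4 ?_ ?_ ?_
  · have := (L_comm' (p := p) (n := n) (show 0 < 1 by decide) (by decide) hy hx).symm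
    rwa [← e0] at this
  · refine Commute.mul_right ?_ ?_
    · have := (L_comm' (p := p) (n := n) (show 0 < 2 by decide) (by decide) hy hx).symm
      rwa [← e0] at this
    · exact (L_comm' (p := p) (n := n) (show 1 < 2 by decide) (by decide) hy hx).symm
  · refine Commute.mul_right (Commute.mul_right ?_ ?_) ?_
    · have := (L_comm' (p := p) (n := n) (show 0 < 3 by decide) (by decide) hy hx).symm
      rwa [← e0] at this
    · exact (L_comm' (p := p) (n := n) (show 1 < 3 by decide) (by decide) hy hx).symm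
    · exact (L_comm' (p := p) (n := n) (show 2 < 3 by decide) (by decide) hy hx).symm

theorem sig_P4 {x : ↥(chevE8.group k)} (hx : x ∈ L k) (h4 : (sig k p n ^ 4) x = x) :
    sig k p n (P4 k p n x) = P4 k p n x := by
  unfold P4
  simp only [map_mul, sig_pow_succ]
  rw [h4]
  have h0 : sig k p n x = (sig k p n ^ 1) x := by rw [pow_one]
  rw [h0]
  have e0 : ∀ z : ↥(chevE8.group k), z = (sig k p n ^ 0) z := fun z => by rw [pow_zero]; rfl
  have c1 : Commute x ((sig k p n ^ 1) x) := by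
    have := L_comm' (p := p) (n := n) (show 0 < 1 by decide) (by decide) hx hx
    rwa [← e0] at this
  have c2 : Commute x ((sig k p n ^ 2) x) := by
    have := L_comm' (p := p) (n := n) (show 0 < 2 by decide) (by decide) hx hx
    rwa [← e0] at this
  have c3 : Commute x ((sig k p n ^ 3) x) := by
    have := L_comm' (p := p) (n := n) (show 0 < 3 by decide) (by decide) hx hx
    rwa [← e0] at this
  have h : Commute x ((sig k p n ^ 1) x * (sig k p n ^ 2) x * (sig k p n ^ 3) x) := (c1.mul_right c2).mul_right c3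
  rw [← h.eq]
  group

variable (k p n) in
/-- the diagonal homomorphism -/
noncomputable def io (hπ : ∀ A, π A ∈ L k) : _root_.Matrix.SpecialLinearGroup (Fin 3) E →* ↥(chevE8.group k) where
  toFun A := P4 k p n (π A)
  map_one' := by
    unfold P4
    simp only [_root_.map_one, _root_.pow_one, _root_.mul_one]
  map_mul' A B := by
    rw [map_mul, P4_mul (hπ A) (hπ B)]

theorem two_sub_ne : ∀ {i j : Fin 3}, i ≠ j → 2 - j ≠ 2 - i := by decide

/-- `σ⁴ π = π σ_J` -/
theorem sig_four (f : E →+* k) (h1 : ∀ i j (hij : i ≠ j) a, π (_root_.Matrix.SpecialLinearGroup.transvection hij a) = X (rt i j) ((sn i j : k) * f a))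
    {σ : E →+* E} (hσ : ∀ x, σ x = x ^ (p ^ n) ^ 4) (A : _root_.Matrix.SpecialLinearGroup (Fin 3) E) :
    (sig k p n ^ 4) (π A) = π (stJ σ A) := by
  have key : ∀ (i j : Fin 3) (hij : i ≠ j) (c : E), (sig k p n ^ 4) (π (_root_.Matrix.SpecialLinearGroup.transvection hij c)) =
      π (stJ σ (_root_.Matrix.SpecialLinearGroup.transvection hij c)) := by
    intro i j hij c
    rw [h1, stJ_transvection σ hij (two_sub_ne hij), h1, (sig_it (rt_lt i j) 4 _).2, rt_four i j hij]
    have e1 : (sn i j : k) ^ (p ^ n) ^ 4 = sn i j := by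
      rw [← pow_mul]
      exact intCast_pow _ _
    have e2 : (((-(sn (2 - j) (2 - i) * sn i j) : ℤ)) : k) * ((sn i j : k) * f c) ^ (p ^ n) ^ 4 =
        (sn (2 - j) (2 - i) : k) * f (-σ c) := by
      rw [mul_pow, e1, map_neg, hσ, map_pow]
      push_cast
      have h2 := sn_sq' (k := k) hij
      linear_combination (-(sn (2 - j) (2 - i) : k) * f c ^ (p ^ n) ^ 4) * h2
    exact congrArg (X (rt (2 - j) (2 - i))) e2
  refine Cfsg.Agent.LieClassical.SLGen.transvection_induction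
    (fun A => (sig k p n ^ 4) (π A) = π (stJ σ A)) key ?_ A
  intro A B hA hB
  show (sig k p n ^ 4) (π (A * B)) = π (stJ σ (A * B))
  rw [map_mul, map_mul, map_mul, map_mul, hA, hB]

end L

end Cfsg.Agent.H992.E8X
end

-- part: H992/E8X/Shift
section
/-!
# The shifting elements `y₁(d)`, `y₂(d)` and `r(d)` (helper992)
-/

set_option autoImplicit false

namespace Cfsg.Agent.H992.E8X

open Cfsg Cfsg.Lie Cfsg.Agent.ChevalleyStructure Cfsg.Agent.ChevalleyStructure.Elts
open scoped commutatorElement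

universe u v

section Gen
variable {G : Type*} [Group G]

theorem conj8 {g R h0 h1 h2 h3 h4 h5 h6 h7 : G} (h : h0⁻¹ * g * h0 = g * R)
    (g1 : Commute g h1) (g2 : Commute g h2) (g3 : Commute g h3) (g4 : Commute g h4) (g5 : Commute g h5)
    (g6 : Commute g h6) (g7 : Commute g h7)
    (r1 : Commute R h1) (r2 : Commute R h2) (r3 : Commute R h3) (r4 : Commute R h4) (r5 : Commute R h5)
    (r6 : Commute R h6) (r7 : Commute R h7) :
    (h0 * h1 * h2 * h3 * h4 * h5 * h6 * h7)⁻¹ * g * (h0 * h1 * h2 * h3 * h4 * h5 * h6 * h7) = g * R := by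
  have hB : Commute (g * R) (h1 * h2 * h3 * h4 * h5 * h6 * h7) :=
    ((((((((g1.mul_left r1).mul_right (g2.mul_left r2)).mul_right (g3.mul_left r3)).mul_right
      (g4.mul_left r4)).mul_right (g5.mul_left r5)).mul_right (g6.mul_left r6)).mul_right (g7.mul_left r7)))
  calc (h0 * h1 * h2 * h3 * h4 * h5 * h6 * h7)⁻¹ * g * (h0 * h1 * h2 * h3 * h4 * h5 * h6 * h7)
      = (h1 * h2 * h3 * h4 * h5 * h6 * h7)⁻¹ * (h0⁻¹ * g * h0) * (h1 * h2 * h3 * h4 * h5 * h6 * h7) := by group
    _ = (h1 * h2 * h3 * h4 * h5 * h6 * h7)⁻¹ * ((g * R) * (h1 * h2 * h3 * h4 * h5 * h6 * h7)) := by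
        rw [h, mul_assoc]
    _ = g * R := by rw [hB.eq, inv_mul_cancel_left]

/-- product of four factors with central corrections -/
theorem shift4 {w0 w1 w2 w3 z0 z1 z2 z3 y : G} (h0 : y⁻¹ * w0 * y = w0 * z0) (h1 : y⁻¹ * w1 * y = w1 * z1)
    (h2 : y⁻¹ * w2 * y = w2 * z2) (h3 : y⁻¹ * w3 * y = w3 * z3)
    (c1 : Commute z0 w1) (c2 : Commute (z0 * z1) w2) (c3 : Commute (z0 * z1 * z2) w3) :
    y⁻¹ * (w0 * w1 * w2 * w3) * y = (w0 * w1 * w2 * w3) * (z0 * z1 * z2 * z3) := by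
  calc y⁻¹ * (w0 * w1 * w2 * w3) * y = (y⁻¹ * w0 * y) * (y⁻¹ * w1 * y) * (y⁻¹ * w2 * y) * (y⁻¹ * w3 * y) := by group
    _ = (w0 * z0) * (w1 * z1) * (w2 * z2) * (w3 * z3) := by rw [h0, h1, h2, h3]
    _ = w0 * (z0 * w1) * z1 * (w2 * z2) * (w3 * z3) := by group
    _ = w0 * (w1 * z0) * z1 * (w2 * z2) * (w3 * z3) := by rw [c1.eq]
    _ = w0 * w1 * ((z0 * z1) * w2) * z2 * (w3 * z3) := by group
    _ = w0 * w1 * (w2 * (z0 * z1)) * z2 * (w3 * z3) := by rw [c2.eq]
    _ = w0 * w1 * w2 * ((z0 * z1 * z2) * w3) * z3 := by group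
    _ = w0 * w1 * w2 * (w3 * (z0 * z1 * z2)) * z3 := by rw [c3.eq]
    _ = _ := by group

/-- `σ(y₁) = y₁` -/
theorem rotc {x0 x1 x2 x3 x4 x5 x6 x7 c0 c6 c7 : G} (h7 : Commute x7 x0) (h6 : x6 * x0 = x0 * x6 * c6)
    (h5 : Commute x5 x0) (h4 : Commute x4 x0) (h3 : Commute x3 x0) (h2 : x2 * x0 * c0 = x0 * x2)
    (h1 : Commute x1 x0) (a7 : Commute c6 x7) (b3 : Commute c0 x3) (b4 : Commute c0 x4) (b5 : Commute c0 x5)
    (b6 : Commute c0 x6) (b7 : Commute c0 x7) (d6 : Commute c0 c6) (d7 : Commute c0 c7) :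
    x1 * x2 * x3 * x4 * x5 * x6 * x7 * x0 * c7 * c0 = x0 * x1 * x2 * x3 * x4 * x5 * x6 * x7 * c6 * c7 := by
  have B : Commute c0 (x3 * x4 * x5 * x6 * x7 * c6 * c7) :=
    ((((((b3.mul_right b4).mul_right b5).mul_right b6).mul_right b7).mul_right d6).mul_right d7)
  have A : Commute (x3 * x4 * x5) x0 := (h3.mul_left h4).mul_left h5
  calc x1 * x2 * x3 * x4 * x5 * x6 * x7 * x0 * c7 * c0
      = x1 * x2 * x3 * x4 * x5 * x6 * (x7 * x0) * c7 * c0 := by group
    _ = x1 * x2 * x3 * x4 * x5 * (x6 * x0) * x7 * c7 * c0 := by rw [h7.eq]; group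
    _ = x1 * x2 * ((x3 * x4 * x5) * x0) * x6 * (c6 * x7) * c7 * c0 := by rw [h6]; group
    _ = x1 * x2 * x0 * ((x3 * x4 * x5 * x6 * x7 * c6 * c7) * c0) := by rw [A.eq, a7.eq]; group
    _ = x1 * (x2 * x0 * c0) * (x3 * x4 * x5 * x6 * x7 * c6 * c7) := by rw [← B.eq]; group
    _ = (x1 * x0) * x2 * (x3 * x4 * x5 * x6 * x7 * c6 * c7) := by rw [h2]; group
    _ = _ := by rw [h1.eq]; group

/-- conjugation of `z` by `y₁` -/
theorem conjz {x0 x1 x2 x3 x4 x5 x6 x7 c6 c7 z R R' : G} (h0 : x0⁻¹ * z * x0 = z * R)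
    (h4 : x4⁻¹ * z * x4 = z * R') (z1 : Commute z x1) (z2 : Commute z x2) (z3 : Commute z x3)
    (z5 : Commute z x5) (z6 : Commute z x6) (z7 : Commute z x7) (z8 : Commute z c6) (z9 : Commute z c7)
    (r1 : Commute R x1) (r2 : Commute R x2) (r3 : Commute R x3) (r4 : Commute R x4) (r5 : Commute R x5)
    (r6 : Commute R x6) (r7 : Commute R x7) (r8 : Commute R c6) (r9 : Commute R c7)
    (s5 : Commute R' x5) (s6 : Commute R' x6) (s7 : Commute R' x7) (s8 : Commute R' c6) (s9 : Commute R' c7)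
    (rr : Commute R R') :
    (x0 * x1 * x2 * x3 * x4 * x5 * x6 * x7 * c6 * c7)⁻¹ * z * (x0 * x1 * x2 * x3 * x4 * x5 * x6 * x7 * c6 * c7) =
      z * (R * R') := by
  have A : Commute (z * R) (x1 * x2 * x3) := ((z1.mul_left r1).mul_right (z2.mul_left r2)).mul_right (z3.mul_left r3)
  have B : Commute (z * (R * R')) (x5 * x6 * x7 * c6 * c7) :=
    ((((z5.mul_left (r5.mul_left s5)).mul_right (z6.mul_left (r6.mul_left s6))).mul_right
      (z7.mul_left (r7.mul_left s7))).mul_right (z8.mul_left (r8.mul_left s8))).mul_right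
        (z9.mul_left (r9.mul_left s9))
  calc (x0 * x1 * x2 * x3 * x4 * x5 * x6 * x7 * c6 * c7)⁻¹ * z * (x0 * x1 * x2 * x3 * x4 * x5 * x6 * x7 * c6 * c7)
      = (x5 * x6 * x7 * c6 * c7)⁻¹ * x4⁻¹ * (x1 * x2 * x3)⁻¹ * (x0⁻¹ * z * x0) * (x1 * x2 * x3) * x4 *
          (x5 * x6 * x7 * c6 * c7) := by group
    _ = (x5 * x6 * x7 * c6 * c7)⁻¹ * x4⁻¹ * (x1 * x2 * x3)⁻¹ * ((z * R) * (x1 * x2 * x3)) * x4 *
          (x5 * x6 * x7 * c6 * c7) := by rw [h0]; group
    _ = (x5 * x6 * x7 * c6 * c7)⁻¹ * x4⁻¹ * z * (R * x4) * (x5 * x6 * x7 * c6 * c7) := by rw [A.eq]; group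
    _ = (x5 * x6 * x7 * c6 * c7)⁻¹ * (x4⁻¹ * z * x4) * R * (x5 * x6 * x7 * c6 * c7) := by rw [r4.eq]; group
    _ = (x5 * x6 * x7 * c6 * c7)⁻¹ * (z * (R' * R)) * (x5 * x6 * x7 * c6 * c7) := by rw [h4]; group
    _ = (x5 * x6 * x7 * c6 * c7)⁻¹ * ((z * (R * R')) * (x5 * x6 * x7 * c6 * c7)) := by rw [rr.eq]; group
    _ = _ := by rw [B.eq, inv_mul_cancel_left]

end Gen

section
variable {k : Type u} [Field k] {p : ℕ} [Fact p.Prime] [CharP k p] [PerfectRing k p] {n : ℕ}

variable (k p n) in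
/-- all conjugates under `σ^i`, `i < 8`, commute -/
def AC (r s : ℕ) : Prop := ∀ i < 8, ∀ j < 8, ∀ t u : k,
  Commute ((sig k p n ^ i) (X r t)) ((sig k p n ^ j) (X s u))

theorem ac_of {r s : ℕ} (hr : r < 240) (hs : s < 240) {oA oB : Fin 8 → ℕ} (hA : ∀ i : Fin 8, (it r i).1 = oA i)
    (hB : ∀ i : Fin 8, (it s i).1 = oB i) (h : ∀ i j : Fin 8, Cm (oA i) (oB j) = true) : AC k p n r s := by
  intro i hi j hj t u
  refine (sig_commute hr hs (i := i) (j := j) ?_ t u).symm
  have h1 := hA ⟨i, hi⟩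
  have h2 := hB ⟨j, hj⟩
  simp only at h1 h2
  rw [h1, h2]
  exact h _ _

theorem ac_RT : AC k p n 235 142 := ac_of (by decide) (by decide) it_R it_T cm_RT
theorem ac_RN : AC k p n 235 232 := ac_of (by decide) (by decide) it_R it_N cm_RN
theorem ac_RP : AC k p n 235 215 := ac_of (by decide) (by decide) it_R it_P cm_RP
theorem ac_RQ : AC k p n 235 186 := ac_of (by decide) (by decide) it_R it_Q cm_RQ
theorem ac_RR : AC k p n 235 235 := ac_of (by decide) (by decide) it_R it_R cm_RR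
theorem ac_RS : AC k p n 235 219 := ac_of (by decide) (by decide) it_R it_S cm_RS
theorem ac_NP : AC k p n 232 215 := ac_of (by decide) (by decide) it_N it_P cm_NP
theorem ac_NN : AC k p n 232 232 := ac_of (by decide) (by decide) it_N it_N cm_NN
theorem ac_SS : AC k p n 219 219 := ac_of (by decide) (by decide) it_S it_S cm_SS
theorem ac_SP : AC k p n 219 215 := ac_of (by decide) (by decide) it_S it_P cm_SP
theorem ac_SQ : AC k p n 219 186 := ac_of (by decide) (by decide) it_S it_Q cm_SQ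

theorem c_TN {i j : ℕ} (hi : i < 8) (hj : j < 8) (hij : i ≠ j) (t u : k) :
    Commute ((sig k p n ^ i) (X 142 t)) ((sig k p n ^ j) (X 232 u)) := by
  refine (sig_commute (by decide) (by decide) (i := i) (j := j) ?_ t u).symm
  have h1 := it_T ⟨i, hi⟩
  have h2 := it_N ⟨j, hj⟩
  simp only at h1 h2
  rw [h1, h2]
  exact cm_TN _ _ fun h => hij (congrArg Fin.val h)

theorem c_PQ {j : ℕ} (hj : j < 8) (h0 : j ≠ 0) (h4 : j ≠ 4) (t u : k) :
    Commute (X 215 t) ((sig k p n ^ j) (X 186 u)) := by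
  have h := (sig_commute (k := k) (p := p) (n := n) (r := 186) (s := 215) (by decide) (by decide) (i := j) (j := 0)
    (by
      have h1 := it_Q ⟨j, hj⟩
      have h2 := it_P 0
      simp only at h1 h2
      rw [h1]
      exact cm_QP _ (fun h => h0 (congrArg Fin.val h)) (fun h => h4 (congrArg Fin.val h))) u t)
  rw [pow_zero, MulAut.one_apply] at h
  exact h

theorem c_QQ {i j : ℕ} (hi : i < 8) (hj : j < 8) (h1 : (j + 2) % 8 ≠ i) (h2 : (i + 2) % 8 ≠ j) (t u : k) :
    Commute ((sig k p n ^ i) (X 186 t)) ((sig k p n ^ j) (X 186 u)) := by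
  refine (sig_commute (by decide) (by decide) (i := i) (j := j) ?_ t u).symm
  have e1 := it_Q ⟨i, hi⟩
  have e2 := it_Q ⟨j, hj⟩
  simp only at e1 e2
  rw [e1, e2]
  refine cm_QQ _ _ (fun h => h1 ?_) (fun h => h2 ?_)
  · have := congrArg Fin.val h
    rw [Fin.val_add] at this
    exact this.symm
  · have := congrArg Fin.val h
    rw [Fin.val_add] at this
    exact this.symm

end

end Cfsg.Agent.H992.E8X
end

-- part: H992/E8X/Model
section
/-!
# The data of the criterion in `E₈(k)^σ` (helper992)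
-/

set_option autoImplicit false

namespace Cfsg.Agent.H992.E8X

open Cfsg Cfsg.Lie Cfsg.Agent.ChevalleyStructure Cfsg.Agent.ChevalleyStructure.Elts
open Matrix.SpecialLinearGroup
open Cfsg.Agent.H992.E8X.Su3 (st stJ SUJ stJ_transvection)
open scoped commutatorElement

universe u v

theorem comm_inv {G : Type*} [Group G] (a b : G) : ⁅a⁻¹, b⁻¹⁆ = a⁻¹ * b⁻¹ * a * b := by
  rw [commutatorElement_def, inv_inv, inv_inv]

section
variable {k : Type u} [Field k] {p : ℕ} [Fact p.Prime] [CharP k p] [PerfectRing k p] {n : ℕ}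

theorem sig_zero (g : ↥(chevE8.group k)) : (sig k p n ^ 0) g = g := by rw [pow_zero]; rfl

theorem sig_sig (i j : ℕ) (g : ↥(chevE8.group k)) :
    (sig k p n ^ i) ((sig k p n ^ j) g) = (sig k p n ^ (i + j)) g := by
  rw [← MulAut.mul_apply, ← pow_add]

/-- `P4 g` is fixed by `σ` -/
theorem sig_P4' {g : ↥(chevE8.group k)} (h4 : (sig k p n ^ 4) g = g) (c1 : Commute g ((sig k p n ^ 1) g))
    (c2 : Commute g ((sig k p n ^ 2) g)) (c3 : Commute g ((sig k p n ^ 3) g)) :
    sig k p n (P4 k p n g) = P4 k p n g := by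
  unfold P4
  simp only [map_mul, sig_pow_succ]
  rw [h4]
  have h0 : sig k p n g = (sig k p n ^ 1) g := by rw [pow_one]
  rw [h0]
  have h : Commute g ((sig k p n ^ 1) g * (sig k p n ^ 2) g * (sig k p n ^ 3) g) := (c1.mul_right c2).mul_right c3
  rw [← h.eq]
  group

/-- shifting `P4 w` -/
theorem shiftP4 {w R y : ↥(chevE8.group k)} (hy : sig k p n y = y) (h : y⁻¹ * w * y = w * R)
    (hc : ∀ i < 4, ∀ j < 4, Commute ((sig k p n ^ i) R) ((sig k p n ^ j) w)) :
    y⁻¹ * P4 k p n w * y = P4 k p n w * P4 k p n R := by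
  have key : ∀ i, y⁻¹ * (sig k p n ^ i) w * y = (sig k p n ^ i) w * (sig k p n ^ i) R := by
    intro i
    have h1 := (congrArg (sig k p n ^ i) h :)
    rw [map_mul, map_mul, map_mul, map_inv, pow_sig_fix hy] at h1
    exact h1
  have hc0 : ∀ j < 4, Commute R ((sig k p n ^ j) w) := fun j hj => by
    have := hc 0 (by decide) j hj
    rwa [sig_zero] at this
  unfold P4
  refine shift4 h (key 1) (key 2) (key 3) (hc0 1 (by decide)) ?_ ?_
  · exact (hc0 2 (by decide)).mul_left (hc 1 (by decide) 2 (by decide))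
  · exact ((hc0 3 (by decide)).mul_left (hc 1 (by decide) 3 (by decide))).mul_left (hc 2 (by decide) 3 (by decide))

theorem fixP4 {w y : ↥(chevE8.group k)} (hy : sig k p n y = y) (h : y⁻¹ * w * y = w) :
    y⁻¹ * P4 k p n w * y = P4 k p n w := by
  have key : ∀ i, y⁻¹ * (sig k p n ^ i) w * y = (sig k p n ^ i) w := by
    intro i
    have h1 := (congrArg (sig k p n ^ i) h :)
    rw [map_mul, map_mul, map_inv, pow_sig_fix hy] at h1
    exact h1
  unfold P4
  calc y⁻¹ * (w * (sig k p n ^ 1) w * (sig k p n ^ 2) w * (sig k p n ^ 3) w) * y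
      = (y⁻¹ * w * y) * (y⁻¹ * (sig k p n ^ 1) w * y) * (y⁻¹ * (sig k p n ^ 2) w * y) *
          (y⁻¹ * (sig k p n ^ 3) w * y) := by group
    _ = _ := by rw [h, key, key, key]

variable {E : Type v} [Field E] (f : E →+* k) (hE : ∀ a : E, a ^ (p ^ n) ^ 8 = a)

variable (p n) in
/-- half orbit products of the central root elements -/
noncomputable def Rd (d : E) : ↥(chevE8.group k) := X 235 (f d) * (sig k p n ^ 4) (X 235 (f d))

variable (p n) in
/-- the elements of the centre of the radical -/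
noncomputable def rr (d : E) : ↥(chevE8.group k) := P4 k p n (Rd p n f d)

variable (p n) in
/-- the second shifting elements -/
noncomputable def y2 (d : E) : ↥(chevE8.group k) := P8 k p n (X 232 (f d))

variable (p n) in
/-- the commutator of the first two noncommuting factors of `y₁` -/
noncomputable def c0 (d : E) : ↥(chevE8.group k) :=
  (X 186 (f d))⁻¹ * ((sig k p n ^ 2) (X 186 (f d)))⁻¹ * X 186 (f d) * (sig k p n ^ 2) (X 186 (f d))

variable (p n) in
/-- the first shifting elements -/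
noncomputable def y1 (d : E) : ↥(chevE8.group k) :=
  P8 k p n (X 186 (f d)) * (sig k p n ^ 6) (c0 p n f d) * (sig k p n ^ 7) (c0 p n f d)

theorem c0_eq (d : E) : ∃ v : k, c0 p n f d = X 219 v := by
  have h1 := sig_it (k := k) (p := p) (n := n) (r := 186) (by decide) 2 (f d)
  have h2 := it_Q 2
  simp only [Fin.isValue, Fin.coe_ofNat_eq_mod, Nat.reduceMod] at h2
  rw [h2] at h1
  rw [c0, ← comm_inv, h1.2, ← X_neg, ← X_neg]
  exact ⟨_, X_br (r := 156) (s := 186) (q := 219) (by decide) (by decide) (by decide) br_QQ _ _⟩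

include hE in
theorem f_pow (d : E) : (f d) ^ (p ^ n) ^ 8 = f d := by rw [← map_pow, hE]

include hE in
theorem eight_Q (d : E) : (sig k p n ^ 8) (X 186 (f d)) = X 186 (f d) :=
  sig_eight (by decide) (it8 186 (by decide)) (f_pow f hE d)

include hE in
theorem y2_fix (d : E) : sig k p n (y2 p n f d) = y2 p n f d := by
  apply sig_P8 (sig_eight (by decide) (it8 232 (by decide)) (f_pow f hE d))
  intro i hi
  have hi8 : i < 8 := by
    simp only [List.mem_cons, List.not_mem_nil, or_false] at hi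
    omega
  have := ac_NN (k := k) (p := p) (n := n) 0 (by decide) i hi8 (f d) (f d)
  rwa [sig_zero] at this

include hE in
theorem y1_fix (d : E) : sig k p n (y1 p n f d) = y1 p n f d := by
  obtain ⟨v, hv⟩ := c0_eq (p := p) (n := n) f d
  have h8 := eight_Q f hE d
  have hc8 : (sig k p n ^ 8) (c0 p n f d) = c0 p n f d := by
    rw [c0, map_mul, map_mul, map_mul, map_inv, map_inv, sig_sig, h8, show 8 + 2 = 2 + 8 by rfl, ← sig_sig 2 8, h8]
  have hS : ∀ i < 8, ∀ j < 8, Commute ((sig k p n ^ i) (c0 p n f d)) ((sig k p n ^ j) (X 186 (f d))) := by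
    intro i hi j hj
    rw [hv]
    exact ac_SQ i hi j hj _ _
  have hSS : ∀ i < 8, ∀ j < 8, Commute ((sig k p n ^ i) (c0 p n f d)) ((sig k p n ^ j) (c0 p n f d)) := by
    intro i hi j hj
    rw [hv]
    exact ac_SS i hi j hj _ _
  have hS0 : ∀ j < 8, Commute (c0 p n f d) ((sig k p n ^ j) (X 186 (f d))) := fun j hj => by
    have := hS 0 (by decide) j hj
    rwa [sig_zero] at this
  have hSS0 : ∀ j < 8, Commute (c0 p n f d) ((sig k p n ^ j) (c0 p n f d)) := fun j hj => by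
    have := hSS 0 (by decide) j hj
    rwa [sig_zero] at this
  have hQ : ∀ i < 8, i ≠ 2 → i ≠ 6 → Commute ((sig k p n ^ i) (X 186 (f d))) (X 186 (f d)) := by
    intro i hi h2 h6
    have := c_QQ (k := k) (p := p) (n := n) (i := i) (j := 0) hi (by decide) (by omega) (by omega) (f d) (f d)
    rwa [sig_zero] at this
  unfold y1 P8
  simp only [map_mul, sig_pow_succ]
  rw [h8, hc8]
  have h0 : sig k p n (X 186 (f d)) = (sig k p n ^ 1) (X 186 (f d)) := by rw [pow_one]
  rw [h0]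
  refine rotc (hQ 7 (by decide) (by decide) (by decide)) ?_ (hQ 5 (by decide) (by decide) (by decide))
    (hQ 4 (by decide) (by decide) (by decide)) (hQ 3 (by decide) (by decide) (by decide)) ?_
    (hQ 1 (by decide) (by decide) (by decide)) (hS 6 (by decide) 7 (by decide)) (hS0 3 (by decide))
    (hS0 4 (by decide)) (hS0 5 (by decide)) (hS0 6 (by decide)) (hS0 7 (by decide)) (hSS0 6 (by decide))
    (hSS0 7 (by decide))
  · have h6 : (sig k p n ^ 6) (c0 p n f d) = ((sig k p n ^ 6) (X 186 (f d)))⁻¹ * (X 186 (f d))⁻¹ *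
        (sig k p n ^ 6) (X 186 (f d)) * X 186 (f d) := by
      rw [c0, map_mul, map_mul, map_mul, map_inv, map_inv, sig_sig, h8]
    rw [h6]
    group
  · rw [c0]
    group

end

end Cfsg.Agent.H992.E8X
end

-- part: H992/E8X/Model2
section
/-!
# The shifts by `y₁(d)`, `y₂(d)` (helper992)
-/

set_option autoImplicit false

namespace Cfsg.Agent.H992.E8X

open Cfsg Cfsg.Lie Cfsg.Agent.ChevalleyStructure Cfsg.Agent.ChevalleyStructure.Elts
open Matrix.SpecialLinearGroup
open scoped commutatorElement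

universe u v

section
variable {k : Type u} [Field k] {p : ℕ} [Fact p.Prime] [CharP k p] [PerfectRing k p] {n : ℕ}
variable {E : Type v} [Field E] (f : E →+* k) (hE : ∀ a : E, a ^ (p ^ n) ^ 8 = a)

/-- commutation with the `σ`-conjugates of `R_d` -/
theorem Rd_comm {s : ℕ} (h : AC k p n 235 s) {i j : ℕ} (hi : i < 4) (hj : j < 8) (d : E) (t : k) :
    Commute ((sig k p n ^ i) (Rd p n f d)) ((sig k p n ^ j) (X s t)) := by
  unfold Rd
  rw [map_mul, sig_sig]
  exact (h i (by omega) j hj _ _).mul_left (h (i + 4) (by omega) j hj _ _)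

theorem Rd_comm_Rd {i j : ℕ} (hi : i < 4) (hj : j < 4) (d d' : E) :
    Commute ((sig k p n ^ i) (Rd p n f d)) ((sig k p n ^ j) (Rd p n f d')) := by
  conv => arg 2; rw [Rd, map_mul, sig_sig]
  exact (Rd_comm f ac_RR hi (by omega) d _).mul_right (Rd_comm f ac_RR hi (by omega) d _)

theorem Rd_add (d d' : E) : Rd p n f (d + d') = Rd p n f d * Rd p n f d' := by
  unfold Rd
  rw [map_add, ← X_add, map_mul]
  have h := ac_RR (k := k) (p := p) (n := n) 4 (by decide) 0 (by decide) (f d) (f d')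
  rw [sig_zero] at h
  calc X 235 (f d) * X 235 (f d') * ((sig k p n ^ 4) (X 235 (f d)) * (sig k p n ^ 4) (X 235 (f d')))
      = X 235 (f d) * (X 235 (f d') * (sig k p n ^ 4) (X 235 (f d))) * (sig k p n ^ 4) (X 235 (f d')) := by group
    _ = X 235 (f d) * ((sig k p n ^ 4) (X 235 (f d)) * X 235 (f d')) * (sig k p n ^ 4) (X 235 (f d')) := by
        rw [h.eq]
    _ = _ := by group

/-- the elements `rr` commute with products of commuting elements -/
theorem rr_comm {g : ↥(chevE8.group k)} {d : E} (h : ∀ i < 4, Commute ((sig k p n ^ i) (Rd p n f d)) g) :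
    Commute (rr p n f d) g := by
  unfold rr P4
  have h0 := h 0 (by decide)
  rw [sig_zero] at h0
  exact ((h0.mul_left (h 1 (by decide))).mul_left (h 2 (by decide))).mul_left (h 3 (by decide))

theorem rr_comm_X {s : ℕ} (h : AC k p n 235 s) {j : ℕ} (hj : j < 8) (d : E) (t : k) :
    Commute (rr p n f d) ((sig k p n ^ j) (X s t)) := rr_comm f fun _ hi => Rd_comm f h hi hj d t

theorem rr_add (d d' : E) : rr p n f (d + d') = rr p n f d * rr p n f d' := by
  unfold rr P4
  rw [Rd_add, map_mul, map_mul, map_mul]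
  have c : ∀ i < 4, ∀ j < 4, Commute ((sig k p n ^ i) (Rd p n f d)) ((sig k p n ^ j) (Rd p n f d')) :=
    fun i hi j hj => Rd_comm_Rd f hi hj d d'
  have c' : ∀ i < 4, Commute ((sig k p n ^ i) (Rd p n f d)) (Rd p n f d') := fun i hi => by
    have := c i hi 0 (by decide)
    rwa [sig_zero] at this
  refine rearr4 (c' 1 (by decide)) ((c' 2 (by decide)).mul_right (c 2 (by decide) 1 (by decide))) ?_
  exact (((c' 3 (by decide)).mul_right (c 3 (by decide) 1 (by decide))).mul_right (c 3 (by decide) 2 (by decide)))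

include hE in
theorem rr_fix (d : E) : sig k p n (rr p n f d) = rr p n f d := by
  have h8 : (sig k p n ^ 8) (X 235 (f d)) = X 235 (f d) :=
    sig_eight (by decide) (it8 235 (by decide)) (f_pow f hE d)
  have e0 : (sig k p n ^ 4) (Rd p n f d) = Rd p n f d := by
    unfold Rd
    rw [map_mul, sig_sig, h8]
    have h := ac_RR (k := k) (p := p) (n := n) 4 (by decide) 0 (by decide) (f d) (f d)
    rw [sig_zero] at h
    exact h.eq
  have c : ∀ j < 4, Commute (Rd p n f d) ((sig k p n ^ j) (Rd p n f d)) := fun j hj => by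
    have := Rd_comm_Rd (k := k) (p := p) (n := n) f (i := 0) (by decide) hj d d
    rwa [sig_zero] at this
  exact sig_P4' e0 (c 1 (by decide)) (c 2 (by decide)) (c 3 (by decide))

/-- the basic shift of `g_a = X 142 (f a)` by `y₂(d)` -/
theorem y2_g (a d : E) : (y2 p n f d)⁻¹ * X 142 (f a) * y2 p n f d = X 142 (f a) * X 235 (f (a * d)) := by
  have h0 : (X 232 (f d))⁻¹ * X 142 (f a) * X 232 (f d) = X 142 (f a) * X 235 (f (a * d)) := by
    have h1 : ⁅(X 142 (f a))⁻¹, (X 232 (f d))⁻¹⁆ = X 235 (f (a * d)) := by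
      rw [← X_neg, ← X_neg, X_br (r := 232) (s := 142) (q := 235) (by decide) (by decide) (by decide) br_TN]
      congr 1
      push_cast
      rw [map_mul]
      ring
    rw [← h1, comm_inv]
    group
  have hT : ∀ i < 8, i ≠ 0 → Commute (X 142 (f a)) ((sig k p n ^ i) (X 232 (f d))) := fun i hi hi0 => by
    have := c_TN (k := k) (p := p) (n := n) (i := 0) (j := i) (by decide) hi hi0.symm (f a) (f d)
    rwa [sig_zero] at this
  have hR : ∀ i < 8, Commute (X 235 (f (a * d))) ((sig k p n ^ i) (X 232 (f d))) := fun i hi => by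
    have := ac_RN (k := k) (p := p) (n := n) 0 (by decide) i hi (f (a * d)) (f d)
    rwa [sig_zero] at this
  exact conj8 h0 (hT 1 (by decide) (by decide)) (hT 2 (by decide) (by decide)) (hT 3 (by decide) (by decide))
    (hT 4 (by decide) (by decide)) (hT 5 (by decide) (by decide)) (hT 6 (by decide) (by decide))
    (hT 7 (by decide) (by decide)) (hR 1 (by decide)) (hR 2 (by decide)) (hR 3 (by decide)) (hR 4 (by decide))
    (hR 5 (by decide)) (hR 6 (by decide)) (hR 7 (by decide))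

theorem y2_z (t : k) (d : E) : Commute (X 215 t) (y2 p n f d) := by
  have h : ∀ i < 8, Commute (X 215 t) ((sig k p n ^ i) (X 232 (f d))) := fun i hi => by
    have := (ac_NP (k := k) (p := p) (n := n) i hi 0 (by decide) (f d) t).symm
    rwa [sig_zero] at this
  unfold y2 P8
  have h0 := h 0 (by decide)
  rw [sig_zero] at h0
  exact ((((((h0.mul_right (h 1 (by decide))).mul_right (h 2 (by decide))).mul_right (h 3 (by decide))).mul_right
    (h 4 (by decide))).mul_right (h 5 (by decide))).mul_right (h 6 (by decide))).mul_right (h 7 (by decide))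

include hE in
/-- **the shift by `y₂`** -/
theorem y2_shift (a d : E) (t : k) :
    (y2 p n f d)⁻¹ * P4 k p n (X 142 (f a) * (sig k p n ^ 4) (X 142 (f a)) * X 215 t) * y2 p n f d =
      P4 k p n (X 142 (f a) * (sig k p n ^ 4) (X 142 (f a)) * X 215 t) * rr p n f (a * d) := by
  have hfix := y2_fix (k := k) (p := p) (n := n) f hE d
  have h1 := y2_g (k := k) (p := p) (n := n) f a d
  have h2 : (y2 p n f d)⁻¹ * (sig k p n ^ 4) (X 142 (f a)) * y2 p n f d =
      (sig k p n ^ 4) (X 142 (f a)) * (sig k p n ^ 4) (X 235 (f (a * d))) := by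
    have h3 := congrArg (⇑(sig k p n ^ 4)) h1
    rw [map_mul, map_mul, map_mul, map_inv, pow_sig_fix hfix] at h3
    exact h3
  have h3 : (y2 p n f d)⁻¹ * X 215 t * y2 p n f d = X 215 t := by
    rw [mul_assoc, (y2_z (p := p) (n := n) f t d).eq, inv_mul_cancel_left]
  have cRT : ∀ i < 8, ∀ j < 8, Commute ((sig k p n ^ i) (X 235 (f (a * d)))) ((sig k p n ^ j) (X 142 (f a))) :=
    fun i hi j hj => ac_RT i hi j hj _ _
  have c1 : Commute (X 235 (f (a * d))) ((sig k p n ^ 4) (X 142 (f a))) := by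
    have := cRT 0 (by decide) 4 (by decide)
    rwa [sig_zero] at this
  have c2 : Commute (X 235 (f (a * d))) (X 215 t) := by
    have := ac_RP (k := k) (p := p) (n := n) 0 (by decide) 0 (by decide) (f (a * d)) t
    rwa [sig_zero, sig_zero] at this
  have c3 : Commute ((sig k p n ^ 4) (X 235 (f (a * d)))) (X 215 t) := by
    have := ac_RP (k := k) (p := p) (n := n) 4 (by decide) 0 (by decide) (f (a * d)) t
    rwa [sig_zero] at this
  refine shiftP4 hfix ?_ ?_
  · unfold Rd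
    calc (y2 p n f d)⁻¹ * (X 142 (f a) * (sig k p n ^ 4) (X 142 (f a)) * X 215 t) * y2 p n f d
        = ((y2 p n f d)⁻¹ * X 142 (f a) * y2 p n f d) * ((y2 p n f d)⁻¹ * (sig k p n ^ 4) (X 142 (f a)) * y2 p n f d) *
            ((y2 p n f d)⁻¹ * X 215 t * y2 p n f d) := by group
      _ = (X 142 (f a) * X 235 (f (a * d))) * ((sig k p n ^ 4) (X 142 (f a)) * (sig k p n ^ 4) (X 235 (f (a * d)))) *
            X 215 t := by rw [h1, h2, h3]
      _ = X 142 (f a) * (X 235 (f (a * d)) * (sig k p n ^ 4) (X 142 (f a))) *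
            ((sig k p n ^ 4) (X 235 (f (a * d))) * X 215 t) := by group
      _ = X 142 (f a) * (sig k p n ^ 4) (X 142 (f a)) * (X 235 (f (a * d)) * X 215 t) *
            (sig k p n ^ 4) (X 235 (f (a * d))) := by rw [c1.eq, c3.eq]; group
      _ = _ := by rw [c2.eq]; group
  · intro i hi j hj
    rw [map_mul, map_mul, sig_sig]
    exact ((Rd_comm f ac_RT hi (by omega) _ _).mul_right (Rd_comm f ac_RT hi (by omega) _ _)).mul_right
      (Rd_comm f ac_RP hi (by omega) _ _)

include hE in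
theorem y2_shift_z (d : E) (t : k) :
    (y2 p n f d)⁻¹ * P4 k p n (X 215 t) * y2 p n f d = P4 k p n (X 215 t) := by
  refine fixP4 (y2_fix f hE d) ?_
  rw [mul_assoc, (y2_z (p := p) (n := n) f t d).eq, inv_mul_cancel_left]

include hE in
/-- **the shift by `y₁`** -/
theorem y1_shift (b d : E) (hb : (sig k p n ^ 4) (X 215 (f b)) = X 215 (f b)) :
    (y1 p n f d)⁻¹ * P4 k p n (X 215 (f b)) * y1 p n f d = P4 k p n (X 215 (f b)) * rr p n f (b * d) := by
  have hfix := y1_fix (k := k) (p := p) (n := n) f hE d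
  obtain ⟨v, hv⟩ := c0_eq (k := k) (p := p) (n := n) f d
  have h0 : (X 186 (f d))⁻¹ * X 215 (f b) * X 186 (f d) = X 215 (f b) * X 235 (f (b * d)) := by
    have h1 : ⁅(X 215 (f b))⁻¹, (X 186 (f d))⁻¹⁆ = X 235 (f (b * d)) := by
      rw [← X_neg, ← X_neg, X_br (r := 186) (s := 215) (q := 235) (by decide) (by decide) (by decide) br_PQ]
      congr 1
      push_cast
      rw [map_mul]
      ring
    rw [← h1, comm_inv]
    group
  have h4 : ((sig k p n ^ 4) (X 186 (f d)))⁻¹ * X 215 (f b) * (sig k p n ^ 4) (X 186 (f d)) =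
      X 215 (f b) * (sig k p n ^ 4) (X 235 (f (b * d))) := by
    have h3 := congrArg (⇑(sig k p n ^ 4)) h0
    rw [map_mul, map_mul, map_mul, map_inv, hb] at h3
    exact h3
  have hz : ∀ j < 8, j ≠ 0 → j ≠ 4 → Commute (X 215 (f b)) ((sig k p n ^ j) (X 186 (f d))) :=
    fun j hj j0 j4 => c_PQ hj j0 j4 _ _
  have hzc : ∀ j < 8, Commute (X 215 (f b)) ((sig k p n ^ j) (c0 p n f d)) := fun j hj => by
    rw [hv]
    have := (ac_SP (k := k) (p := p) (n := n) j hj 0 (by decide) v (f b)).symm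
    rwa [sig_zero] at this
  have hR : ∀ i < 8, ∀ j < 8, Commute ((sig k p n ^ i) (X 235 (f (b * d)))) ((sig k p n ^ j) (X 186 (f d))) :=
    fun i hi j hj => ac_RQ i hi j hj _ _
  have hRc : ∀ i < 8, ∀ j < 8, Commute ((sig k p n ^ i) (X 235 (f (b * d)))) ((sig k p n ^ j) (c0 p n f d)) :=
    fun i hi j hj => by rw [hv]; exact ac_RS i hi j hj _ _
  have hR0 : ∀ j < 8, Commute (X 235 (f (b * d))) ((sig k p n ^ j) (X 186 (f d))) := fun j hj => by
    have := hR 0 (by decide) j hj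
    rwa [sig_zero] at this
  have hRc0 : ∀ j < 8, Commute (X 235 (f (b * d))) ((sig k p n ^ j) (c0 p n f d)) := fun j hj => by
    have := hRc 0 (by decide) j hj
    rwa [sig_zero] at this
  have rr' : Commute (X 235 (f (b * d))) ((sig k p n ^ 4) (X 235 (f (b * d)))) := by
    have := ac_RR (k := k) (p := p) (n := n) 0 (by decide) 4 (by decide) (f (b * d)) (f (b * d))
    rwa [sig_zero] at this
  refine shiftP4 hfix ?_ ?_
  · exact conjz h0 h4 (hz 1 (by decide) (by decide) (by decide)) (hz 2 (by decide) (by decide) (by decide))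
      (hz 3 (by decide) (by decide) (by decide)) (hz 5 (by decide) (by decide) (by decide))
      (hz 6 (by decide) (by decide) (by decide)) (hz 7 (by decide) (by decide) (by decide))
      (hzc 6 (by decide)) (hzc 7 (by decide)) (hR0 1 (by decide)) (hR0 2 (by decide)) (hR0 3 (by decide))
      (hR0 4 (by decide)) (hR0 5 (by decide)) (hR0 6 (by decide)) (hR0 7 (by decide)) (hRc0 6 (by decide))
      (hRc0 7 (by decide)) (hR 4 (by decide) 5 (by decide)) (hR 4 (by decide) 6 (by decide))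
      (hR 4 (by decide) 7 (by decide)) (hRc 4 (by decide) 6 (by decide)) (hRc 4 (by decide) 7 (by decide)) rr'
  · intro i hi j hj
    exact Rd_comm f ac_RP hi (by omega) _ _

/-- `rr` commutes with `y₂` -/
theorem rr_y2 (d d' : E) : Commute (rr p n f d) (y2 p n f d') := by
  have h : ∀ i < 8, Commute (rr p n f d) ((sig k p n ^ i) (X 232 (f d'))) := fun i hi => rr_comm_X f ac_RN hi d _
  unfold y2 P8
  have h0 := h 0 (by decide)
  rw [sig_zero] at h0
  exact ((((((h0.mul_right (h 1 (by decide))).mul_right (h 2 (by decide))).mul_right (h 3 (by decide))).mul_right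
    (h 4 (by decide))).mul_right (h 5 (by decide))).mul_right (h 6 (by decide))).mul_right (h 7 (by decide))

/-- `rr` commutes with `y₁` -/
theorem rr_y1 (d d' : E) : Commute (rr p n f d) (y1 p n f d') := by
  obtain ⟨v, hv⟩ := c0_eq (k := k) (p := p) (n := n) f d'
  have h : ∀ i < 8, Commute (rr p n f d) ((sig k p n ^ i) (X 186 (f d'))) := fun i hi => rr_comm_X f ac_RQ hi d _
  have hc : ∀ i < 8, Commute (rr p n f d) ((sig k p n ^ i) (c0 p n f d')) := fun i hi => by
    rw [hv]; exact rr_comm_X f ac_RS hi d _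
  unfold y1 P8
  have h0 := h 0 (by decide)
  rw [sig_zero] at h0
  exact ((((((((h0.mul_right (h 1 (by decide))).mul_right (h 2 (by decide))).mul_right (h 3 (by decide))).mul_right
    (h 4 (by decide))).mul_right (h 5 (by decide))).mul_right (h 6 (by decide))).mul_right (h 7 (by decide))).mul_right
      (hc 6 (by decide))).mul_right (hc 7 (by decide))

/-- `rr` commutes with `ι` of upper triangular elements -/
theorem rr_w (d : E) (t t' u : k) :
    Commute (rr p n f d) (P4 k p n (X 142 t * (sig k p n ^ 4) (X 142 t') * X 215 u)) := by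
  have h : ∀ i < 4, Commute (rr p n f d) ((sig k p n ^ i) (X 142 t * (sig k p n ^ 4) (X 142 t') * X 215 u)) := by
    intro i hi
    rw [map_mul, map_mul, sig_sig]
    exact ((rr_comm_X f ac_RT (by omega) d _).mul_right (rr_comm_X f ac_RT (by omega) d _)).mul_right
      (rr_comm_X f ac_RP (by omega) d _)
  unfold P4
  have h0 := h 0 (by decide)
  rw [sig_zero] at h0
  exact ((h0.mul_right (h 1 (by decide))).mul_right (h 2 (by decide))).mul_right (h 3 (by decide))

end

end Cfsg.Agent.H992.E8X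
end

-- part: H992/E8X/Torus
section
/-!
# The torus of `SU₃(u⁴)` acts on the centre of the radical (helper992)
-/

set_option autoImplicit false

namespace Cfsg.Agent.H992.E8X

open Cfsg Cfsg.Lie Cfsg.Agent.ChevalleyStructure Cfsg.Agent.ChevalleyStructure.Elts
open Matrix Matrix.SpecialLinearGroup
open scoped commutatorElement

universe u v

theorem neg_215 : chevE8.neg 215 = 24 := by decide +kernel

private noncomputable def frc2 (n : ℕ) (k : ℕ → ℕ × ℤ) : ℕ × ℤ := Nat.rec (k 0) (fun m _ => k (Nat.succ m)) n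

private theorem frc2_eq (n : ℕ) (k : ℕ → ℕ × ℤ) : frc2 n k = k n := by cases n <;> rfl

private noncomputable def frz2 (z : ℤ) (k : ℤ → ℕ × ℤ) : ℕ × ℤ :=
  Int.rec (fun n => frc2 n fun a => k (Int.ofNat a)) (fun n => frc2 n fun a => k (Int.negSucc a)) z

private theorem frz2_eq (z : ℤ) (k : ℤ → ℕ × ℤ) : frz2 z k = k z := by
  cases z <;> simp only [frz2, frc2_eq]

private noncomputable def actS2 (f : ℕ → ℕ → ℕ) (g : ℕ → ℕ → ℤ) (l : List ℕ) (r : ℕ) (z : ℤ) :
    (ℕ → ℤ → ℕ × ℤ) → ℕ × ℤ :=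
  List.rec (fun k => k r z)
    (fun i _ ih k => ih fun s y => frc2 (f i s) fun s' => frz2 (g i s * y) fun y' => k s' y') l

private theorem actS2_eq (l : List ℕ) (r : ℕ) (z : ℤ) (k : ℕ → ℤ → ℕ × ℤ) :
    actS2 chevE8.reflectRoot (Cfsg.Agent.ChevalleyStructure.NSimple.eta chevE8) l r z k =
      k (act l r).1 ((act l r).2 * z) := by
  induction l generalizing k with
  | nil => exact congrArg (k r) (one_mul z).symm
  | cons i l ih =>
    refine (ih _).trans ?_
    rewrite [frc2_eq, frz2_eq, ← mul_assoc]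
    rfl

private noncomputable def itS2 (f : ℕ → ℕ → ℕ) (g : ℕ → ℕ → ℤ) (r n : ℕ) : (ℕ → ℤ → ℕ × ℤ) → ℕ × ℤ :=
  Nat.rec (fun k => k r 1) (fun _ ih k => ih fun s y => actS2 f g wl s y k) n

private theorem itS2_eq (r n : ℕ) (k : ℕ → ℤ → ℕ × ℤ) :
    itS2 chevE8.reflectRoot (Cfsg.Agent.ChevalleyStructure.NSimple.eta chevE8) r n k =
      k (it r n).1 (it r n).2 := by
  induction n generalizing k with
  | zero => rfl
  | succ n ih => exact (ih _).trans (actS2_eq _ _ _ _)

private theorem it_fast2 : it = fun r n =>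
    itS2 chevE8.reflectRoot (Cfsg.Agent.ChevalleyStructure.NSimple.eta chevE8) r n Prod.mk := by
  funext r n
  rw [itS2_eq]

theorem it_back : it 234 1 = (235, (it 234 1).2) ∧ it 233 2 = (235, (it 233 2).2) ∧ it 225 3 = (235, (it 225 3).2) ∧
    (it 234 1).2 * (it 234 1).2 = 1 ∧ (it 233 2).2 * (it 233 2).2 = 1 ∧ (it 225 3).2 * (it 225 3).2 = 1 := by
  (rewrite [it_fast2]; delta Cfsg.Agent.ChevalleyStructure.NSimple.eta Cfsg.Lie.ChevalleyDatum.chainM Cfsg.Lie.ChevalleyDatum.chainRoot Cfsg.Lie.ChevalleyDatum.reflectRoot; rewrite [Cfsg.Agent.ChevFast.E8.cartan, Cfsg.Agent.ChevFast.E8.chainEntry, Cfsg.Agent.ChevFast.E8.neg]; decide +kernel)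

section
variable {k : Type u} [Field k]

theorem lt_of_mem {r : ℕ} (hr : r ∈ [235, 233, 225]) : r < 240 := by
  simp only [List.mem_cons, List.not_mem_nil, or_false] at hr
  omega

theorem hG_X {r : ℕ} (hr : r ∈ [235, 233, 225]) {τ : k} (hτ : τ ≠ 0) (c : k) :
    hG hE8 215 τ * xG hE8 r c = xG hE8 r (τ * c) * hG hE8 215 τ := by
  apply Units.ext
  rw [Units.val_mul, Units.val_mul, coe_hG, coe_xG, coe_xG, StringMem.hMat_eq hE8 (show 215 < 240 by decide) hτ]
  exact (DiagConj.x_mul_dg (show r < chevE8.nroots from lt_of_mem hr) (chainAdd_of_chk (chk_R r hr)) hτ c).symm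

/-- the image of `diag(τ, 1, τ⁻¹)` -/
def hh (τ : k) : ↥(chevE8.group k) :=
  X 215 (-τ) * X 24 τ⁻¹ * X 215 (-τ) * X 215 1 * X 24 (-1) * X 215 1

theorem coe_hh (τ : k) : (hh τ : GL chevE8.Idx k) = hG hE8 215 (-τ) * (hG hE8 215 (-1))⁻¹ := by
  show xG hE8 215 (-τ) * xG hE8 24 τ⁻¹ * xG hE8 215 (-τ) * xG hE8 215 1 * xG hE8 24 (-1) * xG hE8 215 1 = _
  have e : ∀ r (t : k), (xG hE8 r t)⁻¹ = xG hE8 r (-t) := fun r t => by
    rw [inv_eq_iff_mul_eq_one, xG_add, add_neg_cancel]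
    exact congrArg Subtype.val (X_zero (k := k) r)
  have e1 : (-(-τ)⁻¹ : k) = τ⁻¹ := by rw [inv_neg, neg_neg]
  have e2 : (-(-1 : k)⁻¹ : k) = 1 := by norm_num
  rw [hG_def, hG_def, nG_def, nG_def, neg_215, e1, e2]
  have e3 := e 215 (-1)
  have e4 := e 24 (1 : k)
  rw [neg_neg] at e3
  rw [← e3, ← e4]
  group

theorem hh_X {r : ℕ} (hr : r ∈ [235, 233, 225]) {τ : k} (hτ : τ ≠ 0) (c : k) :
    hh τ * X r c * (hh τ)⁻¹ = X r (τ * c) := by
  apply Subtype.ext
  show (hh τ : GL chevE8.Idx k) * xG hE8 r c * (hh τ : GL chevE8.Idx k)⁻¹ = xG hE8 r (τ * c)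
  have h1 := hG_X (k := k) hr (neg_ne_zero.2 hτ)
  have h2 := hG_X (k := k) hr (show (-1 : k) ≠ 0 by simp)
  rw [coe_hh, mul_inv_eq_iff_eq_mul]
  have h3 : (hG hE8 215 (-1 : k))⁻¹ * xG hE8 r c = xG hE8 r (-c) * (hG hE8 215 (-1 : k))⁻¹ := by
    rw [inv_mul_eq_iff_eq_mul, ← mul_assoc, h2, mul_inv_cancel_right]
    congr 1
    ring
  rw [mul_assoc, h3, ← mul_assoc, h1, mul_assoc]
  congr 2
  ring

theorem hh_comm (τ c : k) : Commute (hh τ) (X 234 c) := by
  have h1 : ∀ t : k, Commute (X 215 t) (X 234 c) := fun t => (X_commute (by decide) (by decide) cm_R7.1 t c).symm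
  have h2 : ∀ t : k, Commute (X 24 t) (X 234 c) := fun t => (X_commute (by decide) (by decide) cm_R7.2 t c).symm
  unfold hh
  exact (((((h1 _).mul_left (h2 _)).mul_left (h1 _)).mul_left (h1 _)).mul_left (h2 _)).mul_left (h1 _)

end

section
variable {k : Type u} [Field k] {p : ℕ} [Fact p.Prime] [CharP k p] [PerfectRing k p] {n : ℕ}

/-- the action of a `σ`-conjugate -/
theorem conj_back {r i : ℕ} {s : ℤ} (hr : r < 240) (hi : it r i = (235, s)) (hs : s * s = 1) {g : ↥(chevE8.group k)}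
    {μ : k} (hg : ∀ c, g * X r c * g⁻¹ = X r (μ * c)) (t : k) :
    (sig k p n ^ i) g * X 235 t * ((sig k p n ^ i) g)⁻¹ = X 235 (μ ^ (p ^ n) ^ i * t) := by
  obtain ⟨t', ht'⟩ : ∃ t' : k, t' ^ (p ^ n) ^ i = (s : k) * t := by
    refine ⟨(iterateFrobeniusEquiv k p (n * i)).symm ((s : k) * t), ?_⟩
    rw [← pow_mul]
    have := (iterateFrobeniusEquiv k p (n * i)).apply_symm_apply ((s : k) * t)
    rwa [iterateFrobeniusEquiv_def] at this
  have hs' : (s : k) * s = 1 := by rw [← Int.cast_mul, hs, Int.cast_one]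
  have h1 := (sig_it (k := k) (p := p) (n := n) hr i t').2
  have h2 := (sig_it (k := k) (p := p) (n := n) hr i (μ * t')).2
  rw [hi] at h1 h2
  simp only at h1 h2
  rw [ht', ← mul_assoc, hs', one_mul] at h1
  rw [mul_pow, ht'] at h2
  rw [← h1, ← map_mul, ← map_inv, ← map_mul, hg, h2]
  congr 1
  linear_combination (μ ^ (p ^ n) ^ i * t) * hs'

/-- the action of `ι(diag(τ, 1, τ⁻¹))` on the root group of `ρ` -/
theorem P4_hh {τ : k} (hτ : τ ≠ 0) (t : k) :
    P4 k p n (hh τ) * X 235 t * (P4 k p n (hh τ))⁻¹ = X 235 (τ ^ (1 + (p ^ n) ^ 2 + (p ^ n) ^ 3) * t) := by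
  obtain ⟨b1, b2, b3, s1, s2, s3⟩ := it_back
  have e1 : ∀ t : k, (sig k p n ^ 1) (hh τ) * X 235 t * ((sig k p n ^ 1) (hh τ))⁻¹ = X 235 t := by
    intro t
    have h := conj_back (k := k) (p := p) (n := n) (by decide) b1 s1 (g := hh τ) (μ := 1) (fun c => by
      rw [one_mul, (hh_comm τ c).eq, mul_inv_cancel_right]) t
    rwa [one_pow, one_mul] at h
  have e2 := fun t : k => conj_back (k := k) (p := p) (n := n) (by decide) b2 s2 (g := hh τ) (μ := τ)
    (fun c => hh_X (by decide) hτ c) t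
  have e3 := fun t : k => conj_back (k := k) (p := p) (n := n) (by decide) b3 s3 (g := hh τ) (μ := τ)
    (fun c => hh_X (by decide) hτ c) t
  have e0 := fun t : k => hh_X (k := k) (r := 235) (by decide) hτ t
  unfold P4
  calc hh τ * (sig k p n ^ 1) (hh τ) * (sig k p n ^ 2) (hh τ) * (sig k p n ^ 3) (hh τ) * X 235 t *
        (hh τ * (sig k p n ^ 1) (hh τ) * (sig k p n ^ 2) (hh τ) * (sig k p n ^ 3) (hh τ))⁻¹
      = hh τ * ((sig k p n ^ 1) (hh τ) * ((sig k p n ^ 2) (hh τ) * ((sig k p n ^ 3) (hh τ) * X 235 t *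
          ((sig k p n ^ 3) (hh τ))⁻¹) * ((sig k p n ^ 2) (hh τ))⁻¹) * ((sig k p n ^ 1) (hh τ))⁻¹) * (hh τ)⁻¹ := by
        group
    _ = X 235 (τ * (τ ^ (p ^ n) ^ 2 * (τ ^ (p ^ n) ^ 3 * t))) := by rw [e3, e2, e1, e0]
    _ = _ := congrArg (X 235) (by rw [pow_add, pow_add, pow_one]; ring)

variable {E : Type v} [Field E] (f : E →+* k)

/-- conjugation of `rr` by a `σ`-fixed element -/
theorem rr_conj {g : ↥(chevE8.group k)} (hg : sig k p n g = g) {l : E}
    (h : ∀ d : E, g * X 235 (f d) * g⁻¹ = X 235 (f (l * d))) (d : E) :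
    g * rr p n f d * g⁻¹ = rr p n f (l * d) := by
  have h4 : ∀ i, g * (sig k p n ^ i) (X 235 (f d)) * g⁻¹ = (sig k p n ^ i) (X 235 (f (l * d))) := by
    intro i
    have h1 := congrArg (⇑(sig k p n ^ i)) (h d)
    rw [map_mul, map_mul, map_inv, pow_sig_fix hg] at h1
    exact h1
  have hR : g * Rd p n f d * g⁻¹ = Rd p n f (l * d) := by
    unfold Rd
    calc g * (X 235 (f d) * (sig k p n ^ 4) (X 235 (f d))) * g⁻¹ =
          (g * X 235 (f d) * g⁻¹) * (g * (sig k p n ^ 4) (X 235 (f d)) * g⁻¹) := by group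
      _ = _ := by rw [h, h4]
  have hRi : ∀ i, g * (sig k p n ^ i) (Rd p n f d) * g⁻¹ = (sig k p n ^ i) (Rd p n f (l * d)) := by
    intro i
    have h1 := congrArg (⇑(sig k p n ^ i)) hR
    rw [map_mul, map_mul, map_inv, pow_sig_fix hg] at h1
    exact h1
  unfold rr P4
  calc g * (Rd p n f d * (sig k p n ^ 1) (Rd p n f d) * (sig k p n ^ 2) (Rd p n f d) * (sig k p n ^ 3) (Rd p n f d)) *
        g⁻¹ = (g * Rd p n f d * g⁻¹) * (g * (sig k p n ^ 1) (Rd p n f d) * g⁻¹) *
          (g * (sig k p n ^ 2) (Rd p n f d) * g⁻¹) * (g * (sig k p n ^ 3) (Rd p n f d) * g⁻¹) := by group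
    _ = _ := by rw [hR, hRi, hRi, hRi]

/-- `rr d ≠ 1` -/
theorem rr_ne {d : E} (h : rr p n f d = 1) : d = 0 := by
  have hc : ∀ i < 8, i ≠ 0 → Commute ((sig k p n ^ i) (X 235 (f d))) (X 109 1) := by
    intro i hi hi0
    have h1 := sig_it (k := k) (p := p) (n := n) (r := 235) (by decide) i (f d)
    rw [h1.2]
    have h2 := it_R ⟨i, hi⟩
    simp only at h2
    refine X_commute (by decide) h1.1 ?_ _ _
    rw [h2]
    exact cm_sep _ fun h3 => hi0 (congrArg Fin.val h3)
  have hR : ∀ i < 4, i ≠ 0 → Commute ((sig k p n ^ i) (Rd p n f d)) (X 109 1) := by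
    intro i hi hi0
    unfold Rd
    rw [map_mul, sig_sig]
    exact (hc i (by omega) hi0).mul_left (hc (i + 4) (by omega) (by omega))
  obtain ⟨c, hc1, hbr⟩ := br_sep
  have h1 : rr p n f d = X 235 (f d) * ((sig k p n ^ 4) (X 235 (f d)) * (sig k p n ^ 1) (Rd p n f d) *
      (sig k p n ^ 2) (Rd p n f d) * (sig k p n ^ 3) (Rd p n f d)) := by
    have h0 : Rd p n f d = X 235 (f d) * (sig k p n ^ 4) (X 235 (f d)) := rfl
    calc rr p n f d = Rd p n f d * (sig k p n ^ 1) (Rd p n f d) * (sig k p n ^ 2) (Rd p n f d) *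
          (sig k p n ^ 3) (Rd p n f d) := rfl
      _ = (X 235 (f d) * (sig k p n ^ 4) (X 235 (f d))) * (sig k p n ^ 1) (Rd p n f d) *
          (sig k p n ^ 2) (Rd p n f d) * (sig k p n ^ 3) (Rd p n f d) := by
          congr 3
      _ = _ := by simp only [mul_assoc]
  have h2 : Commute ((sig k p n ^ 4) (X 235 (f d)) * (sig k p n ^ 1) (Rd p n f d) *
      (sig k p n ^ 2) (Rd p n f d) * (sig k p n ^ 3) (Rd p n f d)) (X 109 1) :=
    ((((hc 4 (by decide) (by decide)).mul_left (hR 1 (by decide) (by decide))).mul_left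
      (hR 2 (by decide) (by decide))).mul_left (hR 3 (by decide) (by decide)))
  rw [h] at h1
  have h3 : Commute (X 235 (f d)) (X 109 (1 : k)) := by
    rw [eq_inv_of_mul_eq_one_left (h1.symm :)]
    exact h2.inv_left
  have h4 := commutatorElement_eq_one_iff_commute.2 h3
  rw [X_br (r := 109) (s := 235) (q := 234) (by decide) (by decide) (by decide) hbr] at h4
  have h5 := X_eq_one (by decide) h4
  rw [mul_one] at h5
  have h6 : (c : k) ≠ 0 := by rcases hc1 with rfl | rfl <;> simp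
  rcases mul_eq_zero.1 h5 with h7 | h7
  · exact absurd (neg_eq_zero.1 h7) h6
  · exact (map_eq_zero f).1 h7

end

end Cfsg.Agent.H992.E8X
end

-- part: H992/E8X/Su3b
section
/-!
# Elements of order dividing `Q² - Q + 1` in `SU₃(Q)` (helper992)
-/

set_option autoImplicit false

namespace Cfsg.Agent.H992.E8X.Su3

open Matrix Matrix.SpecialLinearGroup

universe v

section Param
variable {E : Type v} [Field E] {σ : E →+* E}

theorem U_param {u : SUJ σ} (hu : u ∈ U σ) : u.1 =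
    _root_.Matrix.SpecialLinearGroup.transvection (show (0 : Fin 3) ≠ 1 by decide) (u.1.1 0 1) *
      _root_.Matrix.SpecialLinearGroup.transvection (show (1 : Fin 3) ≠ 2 by decide) (-σ (u.1.1 0 1)) *
        transvection (show (0 : Fin 3) ≠ 2 by decide) (u.1.1 0 2 + u.1.1 0 1 * σ (u.1.1 0 1)) := by
  obtain ⟨a1, a2, a3, a4, a5, a6⟩ := mem_U.1 hu
  obtain ⟨h1, -⟩ := U_entries hu
  apply Subtype.ext
  show u.1.1 = (1 + single 0 1 (u.1.1 0 1)) * (1 + single 1 2 (-σ (u.1.1 0 1))) *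
    (1 + single 0 2 (u.1.1 0 2 + u.1.1 0 1 * σ (u.1.1 0 1)))
  ext i j
  (revert i j; simp only [Matrix.mul_apply, Fin.sum_univ_three, Matrix.one_apply, Matrix.single_apply, Matrix.add_apply, a1, a2, a3, a4, a5, a6, h1, _root_.Fin.forall_fin_succ, Fin.isValue, _root_.one_ne_zero, _root_.and_false, ↓reduceIte, _root_.add_zero, _root_.false_and, _root_.mul_ite, _root_.mul_one, _root_.MulZeroClass.mul_zero, _root_.and_true, _root_.true_and, Fin.reduceEq, _root_.ite_mul, _root_.one_mul, _root_.MulZeroClass.zero_mul, _root_.zero_ne_one, _root_.zero_add, _root_.mul_neg, _root_.Fin.succ_zero_eq_one, _root_.ite_self, _root_.Fin.succ_one_eq_two, _root_.IsEmpty.forall_iff, _root_.add_neg_cancel_right, _root_.and_self, _root_.Fin.succ_ne_zero, _root_.neg_zero])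

theorem Z_param {u : SUJ σ} (hu : u ∈ Z σ) : u.1 = _root_.Matrix.SpecialLinearGroup.transvection (show (0 : Fin 3) ≠ 2 by decide) (u.1.1 0 2) := by
  have h := U_param hu.1
  rw [hu.2.1] at h
  refine h.trans ?_
  apply Subtype.ext
  show (1 + single 0 1 0) * (1 + single 1 2 (-σ 0)) * (1 + single 0 2 (u.1.1 0 2 + 0 * σ 0)) =
    1 + single 0 2 (u.1.1 0 2)
  simp

variable {p : ℕ} [Fact p.Prime] [CharP E p]

theorem pow_U {A : Matrix (Fin 3) (Fin 3) E} (h : IsU A) : A ^ p ^ 2 = 1 := by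
  obtain ⟨a1, a2, a3, a4, a5, a6⟩ := h
  have h3 : (A - 1) ^ 3 = 0 := by
    rw [pow_succ, pow_two]
    ext i j
    fin_cases i <;> fin_cases j <;>
      simp only [Matrix.mul_apply, Fin.sum_univ_three, a1, a2, a3, a4, a5, a6, _root_.Fin.zero_eta, _root_.Fin.isValue, _root_.Matrix.sub_apply, _root_.Matrix.one_apply_eq, _root_.sub_self, _root_.MulZeroClass.zero_mul, _root_.ne_eq, _root_.zero_ne_one, _root_.not_false_eq_true, _root_.Matrix.one_apply_ne, _root_.sub_zero, _root_.zero_add, _root_.Fin.reduceEq, _root_.one_ne_zero, _root_.MulZeroClass.mul_zero, _root_.add_zero, _root_.Matrix.zero_apply, _root_.Fin.mk_one, _root_.Fin.reduceFinMk, _root_.Finset.sum_const_zero]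
  have hp : 3 ≤ p ^ 2 := by
    have := (Fact.out : p.Prime).two_le
    nlinarith only [this]
  have h4 : (A - 1) ^ p ^ 2 = 0 := by
    rw [← Nat.sub_add_cancel hp, pow_add, h3, mul_zero]
  have h5 : (A - 1) ^ p ^ 2 = A ^ p ^ 2 - 1 ^ p ^ 2 := sub_pow_char_pow_of_commute p 2 (Commute.one_right A)
  rw [h4, one_pow] at h5
  exact (sub_eq_zero.1 h5.symm)

theorem isPGroup_U : IsPGroup p (U σ) := by
  intro g
  refine ⟨2, ?_⟩
  apply Subtype.ext
  apply Subtype.ext
  apply Subtype.ext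
  show ((g.1.1 ^ p ^ 2 : _root_.Matrix.SpecialLinearGroup (Fin 3) E)).1 = 1
  rw [coe_pow]
  exact pow_U g.2

/-- an element of prime order prime to `|E^*|` and `p` is not in the Borel subgroup -/
theorem not_borel {A : SUJ σ} {s : ℕ} (hs : s.Prime) (hsp : s ≠ p) (hA : A ^ s = 1) (h1 : A ≠ 1)
    (hE : ∀ x : E, x ^ s = 1 → x = 1) : ¬ ∃ v ∈ U σ, ∃ c ∈ C σ, A = v * c := by
  rintro ⟨v, hv, c, hc, rfl⟩
  obtain ⟨a1, a2, a3, a4, a5, a6⟩ := mem_U.1 hv
  obtain ⟨b1, b2, b3, b4, b5, b6⟩ := mem_C.1 hc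
  -- the diagonal entries
  have key : ∀ m : ℕ, ((v * c) ^ m).1.1 1 0 = 0 ∧ ((v * c) ^ m).1.1 2 0 = 0 ∧ ((v * c) ^ m).1.1 2 1 = 0 ∧
      ((v * c) ^ m).1.1 0 0 = c.1.1 0 0 ^ m ∧ ((v * c) ^ m).1.1 1 1 = c.1.1 1 1 ^ m ∧
      ((v * c) ^ m).1.1 2 2 = c.1.1 2 2 ^ m := by
    intro m
    induction m with
    | zero =>
      rw [pow_zero]
      simp only [_root_.OneMemClass.coe_one, _root_.Fin.isValue, _root_.Matrix.SpecialLinearGroup.coe_one, _root_.ne_eq, _root_.one_ne_zero, _root_.not_false_eq_true, _root_.Matrix.one_apply_ne, _root_.Fin.reduceEq, _root_.Matrix.one_apply_eq, _root_.pow_zero, _root_.and_self]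
    | succ m ih =>
      obtain ⟨i1, i2, i3, i4, i5, i6⟩ := ih
      rw [pow_succ]
      have e : ∀ i j, ((v * c) ^ m * (v * c)).1.1 i j = (((v * c) ^ m).1.1 * (v.1.1 * c.1.1)) i j := fun i j => rfl
      refine ⟨?_, ?_, ?_, ?_, ?_, ?_⟩ <;> rw [e] <;>
        simp only [Matrix.mul_apply, Fin.sum_univ_three, a1, a2, a3, a4, a5, a6, b1, b2, b3, b4, b5, b6, i1, i2, i3, i4,
        i5, i6, pow_succ] <;> ring
  obtain ⟨-, -, -, k4, k5, k6⟩ := key s
  rw [hA] at k4 k5 k6
  have c0 : c.1.1 0 0 = 1 := hE _ (by rw [← k4]; rfl)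
  have c1 : c.1.1 1 1 = 1 := hE _ (by rw [← k5]; rfl)
  have c2 : c.1.1 2 2 = 1 := hE _ (by rw [← k6]; rfl)
  have hc1 : c = 1 := by
    apply Subtype.ext
    apply Subtype.ext
    show c.1.1 = 1
    ext i j
    (revert i j; simp only [b1, b2, b3, b4, b5, b6, c0, c1, c2, _root_.Fin.forall_fin_succ, Fin.isValue, _root_.Fin.succ_zero_eq_one, _root_.Fin.succ_one_eq_two, _root_.IsEmpty.forall_iff, _root_.and_true, _root_.Matrix.one_apply_eq, Nat.reduceAdd, _root_.ne_eq, _root_.zero_ne_one, _root_.not_false_eq_true, _root_.Matrix.one_apply_ne, Fin.reduceEq, _root_.and_self, _root_.Fin.succ_ne_zero])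
  rw [hc1, mul_one] at hA h1
  obtain ⟨m, hm⟩ := isPGroup_U (σ := σ) (p := p) ⟨v, hv⟩
  have hm' : v ^ p ^ m = 1 := congrArg Subtype.val hm
  apply h1
  have h3 : orderOf v ∣ s := orderOf_dvd_of_pow_eq_one hA
  have h4 : orderOf v ∣ p ^ m := orderOf_dvd_of_pow_eq_one hm'
  have h5 : Nat.Coprime s (p ^ m) := Nat.Coprime.pow_right m ((Nat.coprime_primes hs Fact.out).2 hsp)
  exact orderOf_eq_one_iff.1 (Nat.eq_one_of_dvd_coprimes h5 h3 h4)

end Param

section Order
variable {E : Type v} [Field E] {σ : E →+* E}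

/-- transport from a hyperbolic frame -/
theorem of_frame (hσ : ∀ x, σ (σ x) = x) {M g : Matrix (Fin 3) (Fin 3) E} (hM : Mᵀ * M.map σ = - (nj E).1)
    (hg : g * (g.map σ)ᵀ = 1) (hdet : g.det = 1) :
    ∃ t : SUJ σ, ∃ N : Matrix (Fin 3) (Fin 3) E, M * N = 1 ∧ N * M = 1 ∧ t.1.1 = N * g * M := by
  set J : Matrix (Fin 3) (Fin 3) E := -(nj E).1 with hJ
  have hJJ : J * J = 1 := by
    rw [hJ, neg_mul_neg]
    exact congrArg Subtype.val (nj_mul_nj (E := E))
  have hJT : Jᵀ = J := by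
    rw [hJ]
    ext i j
    rw [Matrix.transpose_apply, Matrix.neg_apply, Matrix.neg_apply, nj_apply, nj_apply]
    fin_cases i <;> fin_cases j <;> rfl
  have hJσ : J.map σ = J := by
    rw [hJ]
    ext i j
    rw [Matrix.map_apply, Matrix.neg_apply, nj_apply]
    split_ifs <;> simp
  set N : Matrix (Fin 3) (Fin 3) E := J * (M.map σ)ᵀ with hN
  have hMσσ : (M.map σ).map σ = M := by
    ext i j
    simp [hσ]
  -- M̄ᵀ M = J
  have h1 : (M.map σ)ᵀ * M = J := by
    have := congrArg Matrix.transpose hM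
    rwa [Matrix.transpose_mul, Matrix.transpose_transpose, hJT] at this
  have hNM : N * M = 1 := by rw [hN, Matrix.mul_assoc, h1, hJJ]
  have hMN : M * N = 1 := mul_eq_one_comm.1 hNM
  have hNσ : N.map σ = J * Mᵀ := by
    rw [hN, Matrix.map_mul, hJσ, Matrix.transpose_map, hMσσ]
  let t : _root_.Matrix.SpecialLinearGroup (Fin 3) E := ⟨N * g * M, by
    rw [Matrix.det_mul, Matrix.det_mul, hdet, mul_one, ← Matrix.det_mul, hNM, Matrix.det_one]⟩
  have ht : t ∈ SUJ σ := by
    rw [mem_SUJ_iff]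
    show N * g * M * (nj E).1 * ((N * g * M).map σ)ᵀ = (nj E).1
    have e1 : (nj E).1 = -J := by rw [hJ, neg_neg]
    rw [Matrix.map_mul, Matrix.map_mul, Matrix.transpose_mul, Matrix.transpose_mul, hNσ, Matrix.transpose_mul,
      Matrix.transpose_transpose, hJT, e1]
    have e2 : M * J * (M.map σ)ᵀ = 1 := by rw [Matrix.mul_assoc]; exact hMN
    calc N * g * M * -J * ((M.map σ)ᵀ * ((g.map σ)ᵀ * (M * J)))
        = -(N * g * (M * J * (M.map σ)ᵀ) * (g.map σ)ᵀ * (M * J)) := by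
          simp only [Matrix.mul_neg, Matrix.neg_mul, Matrix.mul_assoc]
      _ = -(N * (g * (g.map σ)ᵀ) * (M * J)) := by rw [e2]; simp only [Matrix.mul_one, Matrix.mul_assoc]
      _ = -(N * M * J) := by rw [hg]; simp only [Matrix.mul_one, Matrix.mul_assoc]
      _ = -J := by rw [hNM, Matrix.one_mul]
  exact ⟨⟨t, ht⟩, N, hMN, hNM, rfl⟩

variable [Fintype E] {Q : ℕ}

open Cfsg Cfsg.Agent.LieClassical.HermSiegel Cfsg.Agent.LieClassical.HermBasic Cfsg.Agent.H929.U3 in
theorem exists_order (hE : Fintype.card E = Q ^ 2) (hσ : ∀ x, σ x = x ^ Q) {s : ℕ} (hs : s.Prime)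
    (hd : s ∣ Q ^ 3 + 1) : ∃ t : SUJ σ, t ^ s = 1 ∧ t ≠ 1 := by
  classical
  have hσσ : ∀ x, σ (σ x) = x := by
    intro x
    rw [hσ, hσ, ← pow_mul, ← pow_two, ← hE, FiniteField.pow_card]
  -- an isotropic vector
  have hQ := two_le hE
  obtain ⟨e, he, he0⟩ : ∃ e : Fin 3 → E, hermForm 3 E Q e e = 0 ∧ e ≠ 0 := by
    by_contra hcon
    push Not at hcon
    have h5 := Cfsg.Agent.LieClassical.HermCount.card_isotropic hE 3
    rw [if_neg (by decide)] at h5
    simp only [Nat.reduceSub] at h5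
    have h6 : Subsingleton {v : Fin 3 → E // hermForm 3 E Q v v = 0} :=
      ⟨fun a b => Subtype.ext ((hcon a.1 a.2).trans (hcon b.1 b.2).symm)⟩
    have h7 := Finite.card_le_one_iff_subsingleton.2 h6
    rw [h5] at h7
    have h8 : 0 < (Q ^ 3 + 1) * (Q ^ 2 - 1) := by
      have : 1 < Q ^ 2 := Nat.one_lt_pow (by norm_num) (by omega)
      exact Nat.mul_pos (by positivity) (by omega)
    omega
  obtain ⟨e₂, e₃, hfr⟩ := exists_fr hE he he0
  -- an element of order `s` of `SU₃`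
  have hcard : s ∣ Nat.card (SU 3 E Q) := by
    rw [card_SU3 hE]
    exact Dvd.dvd.mul_left (Dvd.dvd.mul_right hd _) _
  have : Fact s.Prime := ⟨hs⟩
  obtain ⟨g, hg⟩ := exists_prime_orderOf_dvd_card' s hcard
  have hform : ∀ u v : Fin 3 → E, hermForm 3 E Q u v = u 0 * σ (v 0) + u 1 * σ (v 1) + u 2 * σ (v 2) := by
    intro u v
    rw [hermForm, Fin.sum_univ_three, hσ, hσ, hσ]
  let M : Matrix (Fin 3) (Fin 3) E := Matrix.of fun i j => ![e, e₂, e₃] j i
  have hM : Mᵀ * M.map σ = - (nj E).1 := by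
    have h11 := hfr.h11
    have h12 := hfr.h12
    have h13 := hfr.h13
    have h22 := hfr.h22
    have h23 := hfr.h23
    have h33 := hfr.h33
    have h21 := Fr.h21 hE hfr
    have h31 := Fr.h31 hE hfr
    have h32 := Fr.h32 hE hfr
    rw [hform] at h11 h12 h13 h22 h23 h33 h21 h31 h32
    ext i j
    rw [Matrix.mul_apply, Fin.sum_univ_three, Matrix.neg_apply, nj_apply]
    simp only [Matrix.transpose_apply, Matrix.map_apply]
    fin_cases i <;> fin_cases j
    · simpa only [M, _root_.Nat.succ_eq_add_one, _root_.Nat.reduceAdd, _root_.Matrix.cons_val', _root_.Matrix.cons_val_fin_one, _root_.Fin.isValue, _root_.Fin.zero_eta, _root_.Matrix.of_apply, _root_.Matrix.cons_val_zero, _root_.sub_zero, _root_.Fin.reduceEq, ↓ _root_.reduceIte, _root_.neg_zero] using h11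
    · simpa only [M, _root_.Nat.succ_eq_add_one, _root_.Nat.reduceAdd, _root_.Matrix.cons_val', _root_.Matrix.cons_val_fin_one, _root_.Fin.isValue, _root_.Fin.zero_eta, _root_.Matrix.of_apply, _root_.Matrix.cons_val_zero, _root_.Fin.mk_one, _root_.Matrix.cons_val_one, _root_.sub_zero, _root_.Fin.reduceEq, ↓ _root_.reduceIte, _root_.neg_zero] using h12
    · simpa only [M, _root_.Nat.succ_eq_add_one, _root_.Nat.reduceAdd, _root_.Matrix.cons_val', _root_.Matrix.cons_val_fin_one, _root_.Fin.isValue, _root_.Fin.zero_eta, _root_.Matrix.of_apply, _root_.Matrix.cons_val_zero, _root_.Fin.reduceFinMk, _root_.Matrix.cons_val, _root_.Matrix.cons_val_one, _root_.sub_zero, ↓ _root_.reduceIte, _root_.neg_neg] using h13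
    · simpa only [M, _root_.Nat.succ_eq_add_one, _root_.Nat.reduceAdd, _root_.Matrix.cons_val', _root_.Matrix.cons_val_fin_one, _root_.Fin.isValue, _root_.Fin.mk_one, _root_.Matrix.of_apply, _root_.Matrix.cons_val_one, _root_.Matrix.cons_val_zero, _root_.Fin.zero_eta, _root_.Fin.reduceSub, _root_.zero_ne_one, ↓ _root_.reduceIte, _root_.neg_zero] using h21
    · simpa only [M, _root_.Nat.succ_eq_add_one, _root_.Nat.reduceAdd, _root_.Matrix.cons_val', _root_.Matrix.cons_val_fin_one, _root_.Fin.isValue, _root_.Fin.mk_one, _root_.Matrix.of_apply, _root_.Matrix.cons_val_one, _root_.Matrix.cons_val_zero, _root_.Fin.reduceSub, ↓ _root_.reduceIte, _root_.neg_neg] using h22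
    · simpa only [M, _root_.Nat.succ_eq_add_one, _root_.Nat.reduceAdd, _root_.Matrix.cons_val', _root_.Matrix.cons_val_fin_one, _root_.Fin.isValue, _root_.Fin.mk_one, _root_.Matrix.of_apply, _root_.Matrix.cons_val_one, _root_.Matrix.cons_val_zero, _root_.Fin.reduceFinMk, _root_.Matrix.cons_val, _root_.Fin.reduceSub, _root_.Fin.reduceEq, ↓ _root_.reduceIte, _root_.neg_zero] using h23
    · simpa only [M, _root_.Nat.succ_eq_add_one, _root_.Nat.reduceAdd, _root_.Matrix.cons_val', _root_.Matrix.cons_val_fin_one, _root_.Fin.isValue, _root_.Fin.reduceFinMk, _root_.Matrix.of_apply, _root_.Matrix.cons_val, _root_.Matrix.cons_val_one, _root_.Fin.zero_eta, _root_.Matrix.cons_val_zero, _root_.sub_self, ↓ _root_.reduceIte, _root_.neg_neg] using h31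
    · simpa only [M, _root_.Nat.succ_eq_add_one, _root_.Nat.reduceAdd, _root_.Matrix.cons_val', _root_.Matrix.cons_val_fin_one, _root_.Fin.isValue, _root_.Fin.reduceFinMk, _root_.Matrix.of_apply, _root_.Matrix.cons_val, _root_.Matrix.cons_val_one, _root_.Fin.mk_one, _root_.Matrix.cons_val_zero, _root_.sub_self, _root_.one_ne_zero, ↓ _root_.reduceIte, _root_.neg_zero] using h32
    · simpa only [M, _root_.Nat.succ_eq_add_one, _root_.Nat.reduceAdd, _root_.Matrix.cons_val', _root_.Matrix.cons_val_fin_one, _root_.Fin.isValue, _root_.Fin.reduceFinMk, _root_.Matrix.of_apply, _root_.Matrix.cons_val, _root_.Matrix.cons_val_one, _root_.sub_self, _root_.Fin.reduceEq, ↓ _root_.reduceIte, _root_.neg_zero] using h33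
  have hgg : g.1.1 * (g.1.1.map σ)ᵀ = 1 := by
    have h1 := (mem_SU_iff g.1).1 g.2
    rw [← mul_eq_one_comm]
    rw [← Matrix.transpose_inj, Matrix.transpose_mul, Matrix.transpose_transpose, Matrix.transpose_one]
    ext i j
    have h2 := h1 (Pi.single i 1) (Pi.single j 1)
    rw [Matrix.mulVec_single_one, Matrix.mulVec_single_one] at h2
    rw [Matrix.mul_apply, Fin.sum_univ_three]
    rw [hform, hform] at h2
    simp only [Matrix.transpose_apply, Matrix.map_apply, Matrix.col_apply] at h2 ⊢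
    rw [h2, Matrix.one_apply]
    fin_cases i <;> fin_cases j <;> simp [Pi.single_apply]
  obtain ⟨t, N, hMN, hNM, ht⟩ := of_frame hσσ hM hgg g.1.2
  have hpow : ∀ m : ℕ, (t ^ m).1.1 = N * (g ^ m).1.1 * M := by
    intro m
    induction m with
    | zero =>
      rw [pow_zero, pow_zero]
      show (1 : Matrix (Fin 3) (Fin 3) E) = N * 1 * M
      rw [Matrix.mul_one, hNM]
    | succ m ih =>
      rw [pow_succ, pow_succ]
      show (t ^ m).1.1 * t.1.1 = N * ((g ^ m).1.1 * g.1.1) * M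
      rw [ih, ht]
      calc N * (g ^ m).1.1 * M * (N * g.1.1 * M) = N * (g ^ m).1.1 * (M * N) * g.1.1 * M := by
            simp only [Matrix.mul_assoc]
        _ = _ := by rw [hMN]; simp only [Matrix.mul_one, Matrix.mul_assoc]
  refine ⟨t, ?_, ?_⟩
  · apply Subtype.ext
    apply Subtype.ext
    rw [hpow, ← hg, pow_orderOf_eq_one]
    show N * 1 * M = 1
    rw [Matrix.mul_one, hNM]
  · intro h1
    have h2 := hpow 1
    rw [pow_one, pow_one, h1] at h2
    have h3 : g.1.1 = 1 := by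
      calc g.1.1 = (M * N) * g.1.1 * (M * N) := by rw [hMN, Matrix.one_mul, Matrix.mul_one]
        _ = M * (N * g.1.1 * M) * N := by simp only [Matrix.mul_assoc]
        _ = M * (1 : Matrix (Fin 3) (Fin 3) E) * N := by rw [← h2]; rfl
        _ = 1 := by rw [Matrix.mul_one, hMN]
    have h4 : g = 1 := Subtype.ext (Subtype.ext h3)
    rw [h4, orderOf_one] at hg
    exact hs.one_lt.ne hg

end Order

end Cfsg.Agent.H992.E8X.Su3
end

-- part: H992/RkOne
section
/-!
# The rank one relation (helper992)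

`H = U C ∪ U C n U` a group of rank one acting on a vector space `V` in characteristic prime to
`|U|`; if a set `T ∋ 1` with `T \ {1} ⊆ U C n U` has `∑ t ∈ T, t = 0` on `V` (e.g. `T` a subgroup of
order prime to the characteristic without fixed vectors), then `n c n⁻¹ = c` on `V^U` for all
`c ∈ C`.
-/

set_option autoImplicit false

namespace Cfsg.Agent.H992.RkOne

open Finset

variable {k : Type*} [Field k] {V : Type*} [AddCommGroup V] [Module k V] {G : Type*} [Group G]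

/-- the sum over the finite subgroup `U` -/
noncomputable def avg (ρ : G →* Module.End k V) (U : Subgroup G) [Fintype U] : Module.End k V :=
  ∑ u : U, ρ u

theorem mul_avg (ρ : G →* Module.End k V) (U : Subgroup G) [Fintype U] {g : G} (hg : g ∈ U) :
    ρ g * avg ρ U = avg ρ U := by
  classical
  unfold avg
  rw [Finset.mul_sum]
  refine Fintype.sum_equiv (Equiv.mulLeft (⟨g, hg⟩ : U)) _ _ fun x => ?_
  simp [map_mul]

theorem avg_mul (ρ : G →* Module.End k V) (U : Subgroup G) [Fintype U] {g : G} (hg : g ∈ U) :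
    avg ρ U * ρ g = avg ρ U := by
  classical
  unfold avg
  rw [Finset.sum_mul]
  refine Fintype.sum_equiv (Equiv.mulRight (⟨g, hg⟩ : U)) _ _ fun x => ?_
  simp [map_mul]

theorem avg_comm (ρ : G →* Module.End k V) (U : Subgroup G) [Fintype U] {c : G}
    (hc : ∀ u ∈ U, c * u * c⁻¹ ∈ U) : avg ρ U * ρ c = ρ c * avg ρ U := by
  classical
  have hinj : Function.Injective (fun x : U => (⟨c * x * c⁻¹, hc x x.2⟩ : U)) := by
    intro x y hxy
    have h := congrArg Subtype.val hxy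
    simp only [mul_left_inj, mul_right_inj] at h
    exact Subtype.ext h
  have hbij : Function.Bijective (fun x : U => (⟨c * x * c⁻¹, hc x x.2⟩ : U)) :=
    Finite.injective_iff_bijective.1 hinj
  unfold avg
  rw [Finset.mul_sum, Finset.sum_mul]
  symm
  refine Fintype.sum_bijective _ hbij _ _ fun x => ?_
  simp only [← map_mul]
  congr 1
  group

theorem avg_fix (ρ : G →* Module.End k V) (U : Subgroup G) [Fintype U] {w : V}
    (hw : ∀ u ∈ U, ρ u w = w) : avg ρ U w = (Fintype.card U : k) • w := by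
  unfold avg
  rw [LinearMap.sum_apply, Finset.sum_congr rfl fun (u : U) _ => hw (u : G) u.2]
  rw [Finset.sum_const, Finset.card_univ, Nat.cast_smul_eq_nsmul]

/-- If the `r i` form a group, they act trivially. -/
theorem trivial_of_ker {ι : Type*} [Fintype ι] [AddCommGroup ι] (ρ : G →* Module.End k V) (r : ι → G)
    (hr : ∀ i j, r (i + j) = r i * r j) (h : ∀ w : V, ∑ i, ρ (r i) w = 0 → w = 0) (i : ι) (v : V) :
    ρ (r i) v = v := by
  have h1 : ∑ j, ρ (r j) (ρ (r i) v - v) = 0 := by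
    simp only [map_sub, Finset.sum_sub_distrib]
    rw [sub_eq_zero]
    refine Fintype.sum_equiv (Equiv.addRight i) _ _ fun j => ?_
    rw [Equiv.coe_addRight, hr, map_mul, Module.End.mul_apply]
  exact sub_eq_zero.1 (h _ h1)

end Cfsg.Agent.H992.RkOne
end

-- part: H992/E8X/Crit
section
/-!
# The criterion for cross characteristic, version for a homomorphism `j : H →* G` (helper992)
-/

set_option autoImplicit false

namespace Cfsg.Agent.H992.RkOne

open Finset

variable {k : Type*} [Field k] {V : Type*} [AddCommGroup V] [Module k V] {G : Type*} [Group G]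

/-- The rank one relation, `T` a family. -/
theorem rank_one' (ρ : G →* Module.End k V) (U C : Subgroup G) [Finite U]
    (hU : (Nat.card U : k) ≠ 0)
    (hCU : ∀ c ∈ C, ∀ u ∈ U, c * u * c⁻¹ ∈ U) (hCC : ∀ a ∈ C, ∀ b ∈ C, a * b = b * a)
    (n : G) (hnC : ∀ c ∈ C, n * c * n⁻¹ ∈ C)
    {τ : Type*} (T : Finset τ) (gt : τ → G) (i0 : τ) (h1 : i0 ∈ T) (hi0 : gt i0 = 1)
    (hT : ∀ t ∈ T, t ≠ i0 → ∃ u ∈ U, ∃ c ∈ C, ∃ u' ∈ U, gt t = u * c * n * u')
    (hsum : ∀ v : V, ∑ t ∈ T, ρ (gt t) v = 0) {w : V} (hw : ∀ u ∈ U, ρ u w = w) {c : G} (hc : c ∈ C) :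
    ρ (n * c * n⁻¹) w = ρ c w := by
  classical
  haveI : Fintype U := Fintype.ofFinite U
  have hU' : (Fintype.card U : k) ≠ 0 := by rwa [← Nat.card_eq_fintype_card]
  -- the C-part of t
  choose! u hu c' hc' u' hu' htt using hT
  set E := avg ρ U with hE
  set A : Module.End k V := ∑ t ∈ T.erase i0, ρ (c' t) with hA
  have hAc : ∀ a ∈ C, ρ a * A = A * ρ a := by
    intro a ha
    rw [hA, Finset.mul_sum, Finset.sum_mul]
    refine Finset.sum_congr rfl fun t ht => ?_
    have h2 := hc' t (Finset.mem_of_mem_erase ht) (Finset.ne_of_mem_erase ht)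
    rw [← map_mul, ← map_mul, hCC a ha _ h2]
  -- A E ρ(n) m = - |U| m on fixed vectors
  have key : ∀ m : V, (∀ u ∈ U, ρ u m = m) → A (E (ρ n m)) = -((Fintype.card U : k) • m) := by
    intro m hm
    have h0 : E (∑ t ∈ T, ρ (gt t) m) = 0 := by rw [hsum m, map_zero]
    rw [← Finset.add_sum_erase T _ h1, map_add, hi0, map_one, Module.End.one_apply, avg_fix ρ U hm] at h0
    have h3 : E (∑ t ∈ T.erase i0, ρ (gt t) m) = A (E (ρ n m)) := by
      rw [map_sum, hA, LinearMap.sum_apply]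
      refine Finset.sum_congr rfl fun t ht => ?_
      have h4 := Finset.mem_of_mem_erase ht
      have h5 := Finset.ne_of_mem_erase ht
      have h6 : ρ (gt t) m = ρ (u t) (ρ (c' t) (ρ n m)) := by
        conv_lhs => rw [htt t h4 h5]
        rw [map_mul, map_mul, map_mul, Module.End.mul_apply, Module.End.mul_apply,
          Module.End.mul_apply, hm _ (hu' t h4 h5)]
      rw [h6, ← Module.End.mul_apply E, avg_mul ρ U (hu t h4 h5), ← Module.End.mul_apply E,
        avg_comm ρ U (hCU _ (hc' t h4 h5)), Module.End.mul_apply]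
    rw [h3] at h0
    rw [eq_neg_iff_add_eq_zero, add_comm]
    exact h0
  have hcw : ∀ u ∈ U, ρ u (ρ c w) = ρ c w := by
    intro x hx
    have h7 : c⁻¹ * x * c ∈ U := by
      have := hCU c⁻¹ (C.inv_mem hc) x hx
      simpa using this
    have h8 : x * c = c * (c⁻¹ * x * c) := by group
    rw [← Module.End.mul_apply, ← map_mul, h8, map_mul, Module.End.mul_apply, hw _ h7]
  have e1 := key (ρ c w) hcw
  have e2 := key w hw
  have h9 : n * c = (n * c * n⁻¹) * n := by group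
  have hn := hnC c hc
  rw [← Module.End.mul_apply (ρ n), ← map_mul, h9, map_mul, Module.End.mul_apply,
    ← Module.End.mul_apply E, avg_comm ρ U (hCU _ hn), Module.End.mul_apply,
    ← Module.End.mul_apply A, ← hAc _ hn, Module.End.mul_apply, e2, map_neg, map_smul, neg_inj] at e1
  exact smul_right_injective V hU' e1

/-- The shift lemma: `W` the kernel of `∑ i, r i`; conjugation by `y d` multiplies the elements of
`X \ X₀` by all the `r i` and fixes the elements of `X₀`. -/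
theorem shift' {H : Type*} [Group H] {ι : Type*} [Fintype ι] (ρ : G →* Module.End k V) (j : H →* G) (hι : (Fintype.card ι : k) ≠ 0)
    (r y : ι → G) (X X0 : Finset H) (hX0 : X0 ⊆ X)
    (h1 : ∀ x ∈ X, x ∉ X0 → ∃ e : ι → ι, Function.Bijective e ∧ ∀ d, (y d)⁻¹ * j x * y d = j x * r (e d))
    (h2 : ∀ x ∈ X0, ∀ d, (y d)⁻¹ * j x * y d = j x)
    (hry : ∀ i d, r i * y d = y d * r i)
    (hX : ∀ w : V, ∑ i, ρ (r i) w = 0 → ∑ x ∈ X, ρ (j x) w = 0) :
    ∀ w : V, ∑ i, ρ (r i) w = 0 → ∑ x ∈ X0, ρ (j x) w = 0 := by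
  classical
  intro w hw
  have h3 : ∀ d, ∑ x ∈ X, ρ ((y d)⁻¹ * j x * y d) w = 0 := by
    intro d
    have h4 : ∑ i, ρ (r i) (ρ (y d) w) = 0 := by
      have : ∀ i, ρ (r i) (ρ (y d) w) = ρ (y d) (ρ (r i) w) := fun i => by
        rw [← Module.End.mul_apply, ← map_mul, hry, map_mul, Module.End.mul_apply]
      rw [Finset.sum_congr rfl fun i _ => this i, ← map_sum, hw, map_zero]
    have h5 := congrArg (ρ (y d)⁻¹) (hX _ h4)
    rw [map_zero, map_sum] at h5
    rw [← h5]
    refine Finset.sum_congr rfl fun x _ => ?_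
    rw [mul_assoc, map_mul, map_mul, Module.End.mul_apply, Module.End.mul_apply]
  have h6 : ∑ d, ∑ x ∈ X, ρ ((y d)⁻¹ * j x * y d) w = 0 := Finset.sum_eq_zero fun d _ => h3 d
  rw [Finset.sum_comm, ← Finset.sum_sdiff hX0] at h6
  have h7 : ∑ x ∈ X \ X0, ∑ d, ρ ((y d)⁻¹ * j x * y d) w = 0 := by
    refine Finset.sum_eq_zero fun x hx => ?_
    obtain ⟨hxX, hx0⟩ := Finset.mem_sdiff.1 hx
    obtain ⟨e, he, hed⟩ := h1 x hxX hx0
    rw [Finset.sum_congr rfl fun d _ => by rw [hed d, map_mul, Module.End.mul_apply], ← map_sum,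
      Fintype.sum_bijective e he (fun d => ρ (r (e d)) w) (fun i => ρ (r i) w) fun d => rfl, hw,
      map_zero]
  rw [h7, zero_add] at h6
  have h8 : ∑ x ∈ X0, ∑ d : ι, ρ ((y d)⁻¹ * j x * y d) w = (Fintype.card ι : k) • ∑ x ∈ X0, ρ (j x) w := by
    rw [Finset.smul_sum]
    refine Finset.sum_congr rfl fun x hx => ?_
    rw [Finset.sum_congr rfl fun d _ => by rw [h2 x hx d], Finset.sum_const, Finset.card_univ,
      Nat.cast_smul_eq_nsmul]
  rw [h8] at h6
  exact (smul_eq_zero.1 h6).resolve_left hι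

/-- **Criterion for cross characteristic** (with `j : H →* G`; used for `E₈(u)`, `H = SU₃(u⁴)`): see the module
docstring; `R₃ = {r i}` is the centre of the radical, `U ≤ C(R₃)`, `y₂` shifts `U \ Z` and `y₁`
shifts `Z \ {1}` by all elements of `R₃`. Then all of `R₃` acts trivially. -/
theorem cross' {H : Type*} [Group H] {ι : Type*} [Fintype ι] (ρ : G →* Module.End k V) (j : H →* G) (hι : (Fintype.card ι : k) ≠ 0)
    (r y1 y2 : ι → G) (U Z C : Subgroup H) [Finite U] (hZU : Z ≤ U) (hU : (Nat.card U : k) ≠ 0)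
    (h21 : ∀ x ∈ U, x ∉ Z → ∃ e : ι → ι, Function.Bijective e ∧
      ∀ d, (y2 d)⁻¹ * j x * y2 d = j x * r (e d))
    (h22 : ∀ x ∈ Z, ∀ d, (y2 d)⁻¹ * j x * y2 d = j x)
    (h11 : ∀ x ∈ Z, x ≠ 1 → ∃ e : ι → ι, Function.Bijective e ∧
      ∀ d, (y1 d)⁻¹ * j x * y1 d = j x * r (e d))
    (hr1 : ∀ i d, r i * y1 d = y1 d * r i) (hr2 : ∀ i d, r i * y2 d = y2 d * r i)
    (hrU : ∀ i, ∀ x ∈ U, r i * j x = j x * r i)
    (hCU : ∀ c ∈ C, ∀ u ∈ U, c * u * c⁻¹ ∈ U) (hCC : ∀ a ∈ C, ∀ b ∈ C, a * b = b * a)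
    (n : H) (hnC : ∀ c ∈ C, n * c * n⁻¹ ∈ C)
    {τ : Type*} (T : Finset τ) (gt : τ → H) (i0 : τ) (h1 : i0 ∈ T) (hi0 : gt i0 = 1)
    (hT : ∀ t ∈ T, t ≠ i0 → ∃ u ∈ U, ∃ c ∈ C, ∃ u' ∈ U, gt t = u * c * n * u')
    (hsum : ∀ v : V, ∑ t ∈ T, ρ (j (gt t)) v = 0)
    {c : H} (hc : c ∈ C)
    (hcr : ∀ i : ι, ∃ i' : ι, j (c⁻¹ * (n * c * n⁻¹)) * r i' * (j (c⁻¹ * (n * c * n⁻¹)))⁻¹ = r i' * r i) :
    ∀ w : V, ∑ i, ρ (r i) w = 0 → w = 0 := by
  classical
  haveI : Fintype U := Fintype.ofFinite U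
  have hU' : (Fintype.card U : k) ≠ 0 := by rwa [← Nat.card_eq_fintype_card]
  set g := j (c⁻¹ * (n * c * n⁻¹)) with hg
  have hgw : ∀ w : V, (∀ u ∈ U, ρ (j u) w = w) → ρ g w = w := by
    intro w hw
    have h := rank_one' (ρ.comp j) U C hU hCU hCC n hnC T gt i0 h1 hi0 hT hsum hw hc
    rw [MonoidHom.comp_apply, MonoidHom.comp_apply] at h
    rw [hg, map_mul j, map_mul, Module.End.mul_apply, h, ← Module.End.mul_apply, ← map_mul, ← map_mul,
      inv_mul_cancel, map_one, map_one, Module.End.one_apply]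
  -- U-fixed vectors of W vanish
  have hfix : ∀ w : V, ∑ i, ρ (r i) w = 0 → (∀ u ∈ U, ρ (j u) w = w) → w = 0 := by
    intro w hw hwU
    have hri : ∀ i, ∀ u ∈ U, ρ (j u) (ρ (r i) w) = ρ (r i) w := by
      intro i u hu
      rw [← Module.End.mul_apply, ← map_mul, ← hrU i u hu, map_mul, Module.End.mul_apply, hwU u hu]
    have h2 : ∀ i, ρ (r i) w = w := by
      intro i
      obtain ⟨i', hj⟩ := hcr i
      have h3 : ρ (g * r i' * g⁻¹) w = ρ (r i') w := by
        have h4 : ρ g⁻¹ w = w := by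
          conv_lhs => rw [← hgw w hwU]
          rw [← Module.End.mul_apply, ← map_mul, inv_mul_cancel, map_one, Module.End.one_apply]
        rw [map_mul, map_mul, Module.End.mul_apply, Module.End.mul_apply, h4, hgw _ (hri i')]
      rw [hj, map_mul, Module.End.mul_apply] at h3
      have h5 := congrArg (ρ (r i')⁻¹) h3
      have h6 : ∀ v : V, ρ (r i')⁻¹ (ρ (r i') v) = v := by
        intro v
        rw [← Module.End.mul_apply, ← map_mul, inv_mul_cancel, map_one, Module.End.one_apply]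
      rwa [h6, h6] at h5
    rw [Finset.sum_congr rfl fun i _ => h2 i, Finset.sum_const, Finset.card_univ,
      ← Nat.cast_smul_eq_nsmul k] at hw
    exact (smul_eq_zero.1 hw).resolve_left hι
  intro w hw
  by_contra hne
  have hsumU : ∀ w : V, ∑ i, ρ (r i) w = 0 → ∑ x ∈ (U : Set H).toFinset, ρ (j x) w = 0 := by
    intro w hw
    have h3 : ∑ x ∈ (U : Set H).toFinset, ρ (j x) w = avg (ρ.comp j) U w := by
      rw [avg, LinearMap.sum_apply]
      refine Finset.sum_bij' (fun x hx => (⟨x, by simpa using hx⟩ : U)) (fun x _ => (x : H))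
        ?_ ?_ ?_ ?_ ?_ <;> simp only [_root_.Set.mem_toFinset, _root_.SetLike.mem_coe, _root_.Finset.mem_univ, _root_.implies_true, _root_.Subtype.coe_prop, _root_.imp_self, _root_.Subtype.coe_eta, _root_.MonoidHom.coe_comp, _root_.Function.comp_apply]
    rw [h3]
    apply hfix
    · have : ∀ i, ρ (r i) (avg (ρ.comp j) U w) = avg (ρ.comp j) U (ρ (r i) w) := by
        intro i
        simp only [avg, LinearMap.sum_apply, map_sum, MonoidHom.comp_apply]
        refine Finset.sum_congr rfl fun x _ => ?_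
        rw [← Module.End.mul_apply, ← map_mul, hrU i x x.2, map_mul, Module.End.mul_apply]
      rw [Finset.sum_congr rfl fun i _ => this i, ← map_sum, hw, map_zero]
    · intro u hu
      have h4 := mul_avg (ρ.comp j) U hu
      rw [MonoidHom.comp_apply] at h4
      rw [← Module.End.mul_apply, h4]
  have hZ : Z ≤ U := hZU
  haveI : Finite Z := Finite.of_injective (Subgroup.inclusion hZ) (Subgroup.inclusion_injective hZ)
  haveI : Fintype Z := Fintype.ofFinite Z
  have s2 := shift' ρ j hι r y2 (U : Set H).toFinset (Z : Set H).toFinset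
    (by intro x hx; simp only [Set.mem_toFinset, SetLike.mem_coe] at hx ⊢; exact hZ hx)
    (by
      intro x hx hx0
      simp only [Set.mem_toFinset, SetLike.mem_coe] at hx hx0
      exact h21 x hx hx0)
    (by
      intro x hx d
      simp only [Set.mem_toFinset, SetLike.mem_coe] at hx
      exact h22 x hx d) hr2 hsumU
  have s1 := shift' ρ j hι r y1 (Z : Set H).toFinset {1}
    (by simp [Z.one_mem])
    (by
      intro x hx hx0
      simp only [Set.mem_toFinset, SetLike.mem_coe, Finset.mem_singleton] at hx hx0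
      exact h11 x hx hx0)
    (by
      intro x hx d
      rw [Finset.mem_singleton.1 hx, map_one]
      group) hr1 s2 w hw
  rw [Finset.sum_singleton, map_one, map_one, Module.End.one_apply] at s1
  exact hne s1

end Cfsg.Agent.H992.RkOne
end

-- part: H992/E8X/Main
section
/-!
# Cross characteristic modules for `E₈(u)`: elements of prime order dividing `u⁸ - u⁴ + 1` have fixed vectors (helper992)
-/

set_option autoImplicit false

namespace Cfsg.Agent.H992.E8X

open Cfsg Cfsg.Lie Cfsg.Agent.ChevalleyStructure Cfsg.Agent.ChevalleyStructure.Elts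
open Cfsg.Agent.AGraded
open Matrix Matrix.SpecialLinearGroup
open Cfsg.Agent.H992.E8X.Su3
open Cfsg.Agent.H992.RkOne
open scoped commutatorElement

universe u v w

theorem it_142_4 : it 142 4 = (201, 1) := by
  (rewrite [it_fast2]; delta Cfsg.Agent.ChevalleyStructure.NSimple.eta Cfsg.Lie.ChevalleyDatum.chainM Cfsg.Lie.ChevalleyDatum.chainRoot Cfsg.Lie.ChevalleyDatum.reflectRoot; rewrite [Cfsg.Agent.ChevFast.E8.cartan, Cfsg.Agent.ChevFast.E8.chainEntry, Cfsg.Agent.ChevFast.E8.neg]; decide +kernel)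

section
variable {k : Type u} [Field k] {p : ℕ} [Fact p.Prime] [CharP k p] [PerfectRing k p] {n : ℕ}
variable {E : Type v} [Field E] (f : E →+* k)
variable {π : _root_.Matrix.SpecialLinearGroup (Fin 3) E →* ↥(chevE8.group k)}

theorem pi_mem_L (h2 : π.range = Subgroup.closure (gens (x1 f))) (A : _root_.Matrix.SpecialLinearGroup (Fin 3) E) : π A ∈ L k := by
  have h4 : π A ∈ Subgroup.closure (gens (x1 f)) := by rw [← h2]; exact ⟨A, rfl⟩
  have h5 : Subgroup.closure (gens (x1 f)) ≤ L k := by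
    refine (Subgroup.closure_le _).2 ?_
    rintro _ ⟨i, j, hij, a, rfl⟩
    exact X_mem_L hij _
  exact h5 h4

variable (h1 : ∀ i j (hij : i ≠ j) a, π (_root_.Matrix.SpecialLinearGroup.transvection hij a) = X (rt i j) ((sn i j : k) * f a))
variable {σ : E →+* E} (hσ : ∀ x, σ x = x ^ (p ^ n) ^ 4) (hπ : ∀ A, π A ∈ L k)

include h1 hσ in
theorem sig_four_pi (x : SUJ σ) : (sig k p n ^ 4) (π x.1) = π x.1 := by
  rw [sig_four f h1 hσ]
  exact congrArg π (mem_SUJ.1 x.2)

variable (p n) in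
/-- the homomorphism `SU₃ → E₈(k)^σ` -/
noncomputable def jj (hπ : ∀ A, π A ∈ L k) (h : ∀ x : SUJ σ, (sig k p n ^ 4) (π x.1) = π x.1) :
    ↥(SUJ σ) →* ↥(fixG k p n) :=
  ((io k p n hπ).comp (SUJ σ).subtype).codRestrict (fixG k p n) fun x => sig_P4 (hπ x.1) (h x)

include h1 in
theorem pi_Z {x : SUJ σ} (hx : x ∈ Z σ) : π x.1 = X 215 (f (-x.1.1 0 2)) := by
  have h3 := congrArg π (Z_param hx)
  rw [h1] at h3
  rw [h3]
  show X 215 (((-1 : ℤ) : k) * f (x.1.1 0 2)) = _
  congr 1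
  rw [map_neg]
  push_cast
  ring

include h1 hσ in
theorem pi_U {x : SUJ σ} (hx : x ∈ U σ) : ∃ t : k,
    π x.1 = X 142 (f (x.1.1 0 1)) * (sig k p n ^ 4) (X 142 (f (x.1.1 0 1))) * X 215 t := by
  have h3 := congrArg π (U_param hx)
  rw [map_mul, map_mul, h1, h1, h1] at h3
  have h4 := (sig_it (k := k) (p := p) (n := n) (r := 142) (by decide) 4 (f (x.1.1 0 1))).2
  rw [it_142_4] at h4
  refine ⟨((sn 0 2 : ℤ) : k) * f (x.1.1 0 2 + x.1.1 0 1 * σ (x.1.1 0 1)), ?_⟩
  rw [h3, h4]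
  have e1 : ((sn 0 1 : ℤ) : k) * f (x.1.1 0 1) = f (x.1.1 0 1) := by
    rw [show sn 0 1 = 1 from rfl, Int.cast_one, one_mul]
  have e2 : ((sn 1 2 : ℤ) : k) * f (-σ (x.1.1 0 1)) = ((1 : ℤ) : k) * f (x.1.1 0 1) ^ (p ^ n) ^ 4 := by
    rw [show sn 1 2 = -1 from rfl, map_neg, hσ, map_pow]
    push_cast
    ring
  rw [e1, e2]
  rfl

/-- the torus element -/
theorem exists_cc (hσσ : ∀ x, σ (σ x) = x) {b : E} (hb : b ≠ 0) :
    ∃ c ∈ C σ, (c⁻¹ * (nn σ * c * (nn σ)⁻¹)).1 =
      diag2n (show (0 : Fin 3) ≠ 2 by decide) (b * σ b)⁻¹ (inv_ne_zero (mul_ne_zero hb (by simpa using hb))) := by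
  have hb' : σ b ≠ 0 := by simpa using hb
  obtain ⟨c, hc, c0, c1, c2⟩ := exists_diag (σ := σ) (x := b) (y := σ b / b) (z := (σ b)⁻¹)
    (by field_simp) (by rw [map_inv₀, hσσ]; field_simp) (by rw [map_div₀, hσσ]; field_simp) (by field_simp)
  refine ⟨c, hc, ?_⟩
  obtain ⟨a1, a2, a3, a4, a5, a6⟩ := mem_C.1 hc
  apply Subtype.ext
  rw [diag2n_coe, nn_inv]
  have h : (c.1⁻¹).1 = c.1.1.adjugate := coe_inv c.1
  show (c.1⁻¹).1 * ((nj E).1 * c.1.1 * (nj E).1) = _
  ext i j
  rw [h, Matrix.mul_apply, Fin.sum_univ_three]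
  simp only [mul_nj, nj_mul, neg_neg, Matrix.adjugate_fin_three]
  (revert i j; simp only [a1, a2, a3, a4, a5, a6, c0, c1, c2, _root_.Fin.forall_fin_succ, Fin.isValue, _root_.MulZeroClass.mul_zero, _root_.sub_zero, _root_.MulZeroClass.zero_mul, _root_.neg_zero, _root_.add_zero, _root_.sub_self, _root_.Matrix.of_apply, _root_.Matrix.cons_val', _root_.Matrix.cons_val_zero, _root_.Matrix.cons_val_fin_one, _root_.Matrix.cons_val_one, Fin.reduceSub, _root_.Matrix.cons_val, _root_.mul_inv_rev, _root_.inv_inv, _root_.Fin.succ_zero_eq_one, _root_.zero_add, _root_.Fin.succ_one_eq_two, _root_.IsEmpty.forall_iff, _root_.and_true, _root_.Matrix.diagonal_apply_eq, ↓reduceIte, _root_.ne_eq, _root_.zero_ne_one, _root_.not_false_eq_true, _root_.Matrix.diagonal_apply_ne, Fin.reduceEq, _root_.and_self, _root_.Matrix.cons_val_succ, _root_.Fin.succ_ne_zero, _root_.mul_eq_zero, _root_.inv_eq_zero, _root_.map_eq_zero, _root_.true_or, _root_.one_ne_zero, _root_.true_and])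 <;> (repeat' with_reducible apply And.intro) <;> field_simp

include h1 in
theorem pi_diag {a : E} (ha : a ≠ 0) : π (diag2n (show (0 : Fin 3) ≠ 2 by decide) a ha) = hh (f a) := by
  rw [Cfsg.Agent.LieClassical.SLGen.diag2n_decompose, map_mul, map_mul, map_mul, map_mul, map_mul, h1, h1, h1, h1]
  have e1 : ∀ t : k, ((sn 0 2 : ℤ) : k) * t = -t := fun t => by
    rw [show sn 0 2 = -1 from rfl]; push_cast; ring
  have e2 : ∀ t : k, ((sn 2 0 : ℤ) : k) * t = -t := fun t => by
    rw [show sn 2 0 = -1 from rfl]; push_cast; ring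
  simp only [e1, e2, map_neg, map_inv₀, map_one, neg_neg]
  rfl

end

end Cfsg.Agent.H992.E8X
end

-- part: H992/E8X/Fix
section
/-!
# Cross characteristic modules for `E₈(u)`: the theorem (helper992)
-/

set_option autoImplicit false

namespace Cfsg.Agent.H992.E8X

open Cfsg Cfsg.Lie Cfsg.Agent.ChevalleyStructure Cfsg.Agent.ChevalleyStructure.Elts
open Cfsg.Agent.AGraded
open Matrix Matrix.SpecialLinearGroup
open Cfsg.Agent.H992.E8X.Su3
open Cfsg.Agent.H992.RkOne
open Cfsg.Agent.BpExc.TowChev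
open scoped commutatorElement

universe u v w

/-! ### Arithmetic -/

section Arith

theorem arith {q s : ℕ} (hq : 2 ≤ q) (hs : s.Prime) (hd : s ∣ q ^ 8 - q ^ 4 + 1) :
    s ∣ (q ^ 4) ^ 3 + 1 ∧ s ≠ 3 ∧ ¬ s ∣ q ∧ Nat.Coprime s ((q ^ 4) ^ 2 - 1) := by
  set Q := q ^ 4 with hQ
  have hQ2 : 16 ≤ Q := by
    have : 2 ^ 4 ≤ q ^ 4 := Nat.pow_le_pow_left hq 4
    omega
  have h8 : q ^ 8 = Q ^ 2 := by rw [hQ, ← pow_mul]
  have hQQ : Q ≤ Q ^ 2 := by nlinarith only []
  rw [h8] at hd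
  have hd' : (s : ℤ) ∣ (Q : ℤ) ^ 2 - Q + 1 := by
    have : ((Q ^ 2 - Q + 1 : ℕ) : ℤ) = (Q : ℤ) ^ 2 - Q + 1 := by
      rw [Nat.cast_add, Nat.cast_sub hQQ]
      push_cast
      ring
    rw [← this]
    exact_mod_cast hd
  have hsp : Prime (s : ℤ) := Nat.prime_iff_prime_int.1 hs
  have h3 : s ≠ 3 := by
    rintro rfl
    have hm : Q % 3 = 0 ∨ Q % 3 = 1 := by
      rw [hQ, Nat.pow_mod]
      have : q % 3 < 3 := Nat.mod_lt _ (by decide)
      generalize q % 3 = a at this ⊢
      interval_cases a <;> simp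
    obtain ⟨c, hc⟩ := hd'
    rcases hm with h | h
    · obtain ⟨d, hd⟩ : ∃ d, Q = 3 * d := ⟨Q / 3, by omega⟩
      rw [hd] at hc
      push_cast at hc
      have : (3 : ℤ) ∣ 1 := ⟨c - 3 * d ^ 2 + d, by linarith only [hc]⟩
      norm_num at this
    · obtain ⟨d, hd⟩ : ∃ d, Q = 3 * d + 1 := ⟨Q / 3, by omega⟩
      rw [hd] at hc
      push_cast at hc
      have : (3 : ℤ) ∣ 1 := ⟨c - 3 * d ^ 2 - d, by linarith only [hc]⟩
      norm_num at this
  have hq' : ¬ s ∣ q := by
    intro h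
    have h1 : (s : ℤ) ∣ Q := by
      rw [hQ]
      push_cast
      exact Dvd.dvd.pow (by exact_mod_cast h) (by decide)
    have h2 : (s : ℤ) ∣ 1 := by
      have e : (1 : ℤ) = ((Q : ℤ) ^ 2 - Q + 1) - Q * (Q - 1) := by ring
      rw [e]
      exact dvd_sub hd' (Dvd.dvd.mul_right h1 _)
    exact hsp.not_unit (isUnit_of_dvd_one h2)
  refine ⟨?_, h3, hq', ?_⟩
  · have h1 : (s : ℤ) ∣ (Q : ℤ) ^ 3 + 1 := by
      have e : (Q : ℤ) ^ 3 + 1 = ((Q : ℤ) ^ 2 - Q + 1) * (Q + 1) := by ring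
      rw [e]
      exact Dvd.dvd.mul_right hd' _
    exact_mod_cast h1
  · rw [Nat.Prime.coprime_iff_not_dvd hs]
    intro h
    have h1 : (s : ℤ) ∣ (Q : ℤ) ^ 2 - 1 := by
      have : ((Q ^ 2 - 1 : ℕ) : ℤ) = (Q : ℤ) ^ 2 - 1 := by
        rw [Nat.cast_sub (by linarith only [hQ2, hQQ])]
        push_cast
        ring
      rw [← this]
      exact_mod_cast h
    have e : (Q : ℤ) ^ 2 - 1 = (Q - 1) * (Q + 1) := by ring
    rw [e] at h1
    rcases hsp.dvd_or_dvd h1 with h2 | h2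
    · have h4 : (s : ℤ) ∣ 1 := by
        have e : (1 : ℤ) = ((Q : ℤ) ^ 2 - Q + 1) - (Q - 1) * Q := by ring
        rw [e]
        exact dvd_sub hd' (Dvd.dvd.mul_right h2 _)
      exact hsp.not_unit (isUnit_of_dvd_one h4)
    · have h4 : (s : ℤ) ∣ 3 := by
        have e : (3 : ℤ) = ((Q : ℤ) ^ 2 - Q + 1) - (Q + 1) * (Q - 2) := by ring
        rw [e]
        exact dvd_sub hd' (Dvd.dvd.mul_right h2 _)
      have h5 : s ∣ 3 := by exact_mod_cast h4
      exact h3 ((Nat.prime_dvd_prime_iff_eq hs Nat.prime_three).1 h5)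

theorem arith2 {q : ℕ} (hq : 2 ≤ q) : 1 + q ^ 2 + q ^ 3 < q ^ 4 - 1 := by
  obtain ⟨m, rfl⟩ : ∃ m, q = m + 2 := ⟨q - 2, by omega⟩
  have h : 1 + (m + 2) ^ 2 + (m + 2) ^ 3 + 2 ≤ (m + 2) ^ 4 := by ring_nf; nlinarith [Nat.zero_le m]
  omega

end Arith

/-! ### The image of an element of order `s` -/

section
variable {k : Type u} [Field k] {p : ℕ} [Fact p.Prime] [CharP k p] [PerfectRing k p] {n : ℕ}
variable {E : Type v} [Field E] {π : _root_.Matrix.SpecialLinearGroup (Fin 3) E →* ↥(chevE8.group k)}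

theorem center_pow {z : _root_.Matrix.SpecialLinearGroup (Fin 3) E} (hz : z ∈ Subgroup.center (_root_.Matrix.SpecialLinearGroup (Fin 3) E)) :
    z ^ 3 = 1 := by
  rw [Matrix.SpecialLinearGroup.mem_center_iff] at hz
  obtain ⟨r, hr, hr'⟩ := hz
  rw [Fintype.card_fin] at hr
  apply Subtype.ext
  rw [coe_pow, ← hr', ← map_pow, hr, map_one]
  rfl

theorem io_ne (hπ : ∀ A, π A ∈ L k) (hker : π.ker ≤ Subgroup.center (_root_.Matrix.SpecialLinearGroup (Fin 3) E)) {s : ℕ}
    (hs : s.Prime) (h3 : s ≠ 3) {t : _root_.Matrix.SpecialLinearGroup (Fin 3) E} (ht : t ^ s = 1) (h : P4 k p n (π t) = 1) :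
    t = 1 := by
  have hcop : Nat.Coprime s 3 := (Nat.coprime_primes hs Nat.prime_three).2 h3
  have hcomm : ∀ B, Commute (π t) (π B) := by
    intro B
    unfold P4 at h
    have e0 : ∀ z : ↥(chevE8.group k), z = (sig k p n ^ 0) z := fun z => by rw [pow_zero]; rfl
    have c : ∀ j < 4, 0 < j → Commute (π B) ((sig k p n ^ j) (π t)) := fun j hj h0 => by
      have := L_comm' (p := p) (n := n) h0 hj (hπ B) (hπ t)
      rwa [← e0] at this
    have h1 : π t = ((sig k p n ^ 1) (π t) * (sig k p n ^ 2) (π t) * (sig k p n ^ 3) (π t))⁻¹ :=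
      (eq_inv_of_mul_eq_one_left (by rw [← h]; group) : _)
    rw [h1]
    exact (((c 1 (by decide) (by decide)).mul_right (c 2 (by decide) (by decide))).mul_right
      (c 3 (by decide) (by decide))).symm.inv_left
  have hcen : ∀ B, ⁅t, B⁆ ∈ Subgroup.center (_root_.Matrix.SpecialLinearGroup (Fin 3) E) := by
    intro B
    apply hker
    rw [MonoidHom.mem_ker, map_commutatorElement]
    exact commutatorElement_eq_one_iff_commute.2 (hcomm B)
  have hpow : ∀ B, ∀ m : ℕ, t ^ m * B = ⁅t, B⁆ ^ m * (B * t ^ m) := by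
    intro B m
    induction m with
    | zero => simp
    | succ m ih =>
      have hz := Subgroup.mem_center_iff.1 (hcen B)
      have e1 : t * B = ⁅t, B⁆ * (B * t) := by rw [commutatorElement_def]; group
      have e2 : ⁅t, B⁆ ^ m ∈ Subgroup.center (_root_.Matrix.SpecialLinearGroup (Fin 3) E) := Subgroup.pow_mem _ (hcen B) m
      calc t ^ (m + 1) * B = t * (t ^ m * B) := by rw [pow_succ']; group
        _ = (t * ⁅t, B⁆ ^ m) * (B * t ^ m) := by rw [ih]; group
        _ = ⁅t, B⁆ ^ m * (t * B) * t ^ m := by rw [Subgroup.mem_center_iff.1 e2 t]; group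
        _ = ⁅t, B⁆ ^ m * (⁅t, B⁆ * (B * t)) * t ^ m := by rw [← e1]
        _ = _ := by rw [pow_succ, pow_succ']; group
  have hone : ∀ B, Commute t B := by
    intro B
    have h1 := hpow B s
    rw [ht, one_mul, mul_one] at h1
    have h2 : ⁅t, B⁆ ^ s = 1 := (mul_eq_right.1 h1.symm)
    have h4 := center_pow (hcen B)
    have h5 : orderOf ⁅t, B⁆ ∣ 1 := by
      rw [← hcop]
      exact Nat.dvd_gcd (orderOf_dvd_of_pow_eq_one h2) (orderOf_dvd_of_pow_eq_one h4)
    exact commutatorElement_eq_one_iff_commute.1 (orderOf_eq_one_iff.1 (Nat.dvd_one.1 h5))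
  have hct : t ∈ Subgroup.center (_root_.Matrix.SpecialLinearGroup (Fin 3) E) :=
    Subgroup.mem_center_iff.2 fun B => (hone B).eq.symm
  have h5 : orderOf t ∣ 1 := by
    rw [← hcop]
    exact Nat.dvd_gcd (orderOf_dvd_of_pow_eq_one ht) (orderOf_dvd_of_pow_eq_one (center_pow hct))
  exact orderOf_eq_one_iff.1 (Nat.dvd_one.1 h5)

end

/-! ### The theorem -/

section
variable {F : Type u} [Field F] [Finite F] {K : Type v} [Field K] {V : Type w} [AddCommGroup V] [Module K V]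

private theorem mc1 {G H : Type*} [Group G] [Group H] (θ : G →* H) {a b c d e : G} (h : a⁻¹ * b * c = d * e) :
    (θ a)⁻¹ * θ b * θ c = θ d * θ e := by rw [← θ.map_inv, ← θ.map_mul, ← θ.map_mul, ← θ.map_mul, h]

private theorem mc2 {G H : Type*} [Group G] [Group H] (θ : G →* H) {a b c d : G} (h : a⁻¹ * b * c = d) :
    (θ a)⁻¹ * θ b * θ c = θ d := by rw [← θ.map_inv, ← θ.map_mul, ← θ.map_mul, h]

private theorem mc3 {G H : Type*} [Group G] [Group H] (θ : G →* H) {a b c d : G} (h : a * b = c * d) :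
    θ a * θ b = θ c * θ d := by rw [← θ.map_mul, ← θ.map_mul, h]

private theorem mc4 {G H : Type*} [Group G] [Group H] (θ : G →* H) {a b c d e : G} (h : a * b * c⁻¹ = d * e) :
    θ a * θ b * (θ c)⁻¹ = θ d * θ e := by rw [← θ.map_inv, ← θ.map_mul, ← θ.map_mul, ← θ.map_mul, h]

/-- **Theorem.** A faithful module of `E₈(u)` in characteristic prime to `u`: an element of prime order `s`,
`s ∣ u⁸ - u⁴ + 1`, fixes a nonzero vector. -/
theorem exists_fix (ρ : ↥(chevE8.group F) →* Module.End K V) (hρ : Function.Injective ρ)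
    (hK : (Nat.card F : K) ≠ 0) {s : ℕ} (hs : s.Prime) (hd : s ∣ Nat.card F ^ 8 - Nat.card F ^ 4 + 1) :
    ∃ x : ↥(chevE8.group F), orderOf x = s ∧ ∃ v : V, v ≠ 0 ∧ ρ x v = v := by
  classical
  obtain ⟨k, _, _, fF, p, hp, _, n, -, -, hn0, hn⟩ := Cfsg.Agent.H378.TorFin.exists_closure F
  have : Fact p.Prime := hp
  set q := p ^ n with hq
  have hq2 : 2 ≤ q := (hp.out.two_le).trans (Nat.le_self_pow hn0.ne' p)
  rw [hn] at hK hd
  obtain ⟨hd3, hs3, hsq, hcop⟩ := arith hq2 hs hd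
  have hpK : (p : K) ≠ 0 := by
    intro h0
    apply hK
    rw [hq, Nat.cast_pow, h0, zero_pow hn0.ne']
  have hsp : s ≠ p := fun h => hsq (h ▸ dvd_pow_self p hn0.ne')
  -- the field with `q ^ 8` elements
  let E := GaloisField p (8 * n)
  let _ : Fintype E := Fintype.ofFinite E
  have h8n : 8 * n ≠ 0 := by omega
  have hEc : Fintype.card E = (q ^ 4) ^ 2 := by
    rw [← Nat.card_eq_fintype_card, GaloisField.card p (8 * n) h8n, hq, ← pow_mul, ← pow_mul]
    congr 1
    ring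
  let _ : Algebra (ZMod p) k := ZMod.algebra k p
  let f : E →+* k := ((IsAlgClosed.lift : E →ₐ[ZMod p] k) : E →+* k)
  let σ : E →+* E := iterateFrobenius E p (4 * n)
  have hσ : ∀ x : E, σ x = x ^ (p ^ n) ^ 4 := fun x => by
    show iterateFrobenius E p (4 * n) x = _
    rw [iterateFrobenius_def, ← pow_mul, mul_comm n 4]
  have hE8 : ∀ a : E, a ^ (p ^ n) ^ 8 = a := by
    intro a
    have h1 : (p ^ n) ^ 8 = Fintype.card E := by rw [hEc, hq, ← pow_mul, ← pow_mul, ← pow_mul]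
    rw [h1, FiniteField.pow_card]
  have hσσ : ∀ x : E, σ (σ x) = x := fun x => by
    rw [hσ, hσ, ← pow_mul, ← pow_add]
    exact hE8 x
  obtain ⟨π, h1, h2, hker⟩ := exists_pi (k := k) f
  have hπ : ∀ A, π A ∈ L k := pi_mem_L f h2
  have h4 := fun x : SUJ σ => sig_four_pi (k := k) (p := p) (n := n) f h1 hσ x
  obtain ⟨θ, hθ⟩ := exists_fix_hom (k := k) fF hn0 hn
  let J : ↥(SUJ σ) →* ↥(fixG k p n) := jj p n hπ h4
  have hJ : ∀ x : SUJ σ, (J x : ↥(chevE8.group k)) = P4 k p n (π x.1) := fun x => rfl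
  -- the element of order `s`
  obtain ⟨t, hts, ht1⟩ := exists_order (E := E) hEc hσ hs hd3
  have hJt : J t ≠ 1 := by
    intro h
    apply ht1
    have h5 : P4 k p n (π t.1) = 1 := by rw [← hJ, h]; rfl
    exact Subtype.ext (io_ne hπ hker hs hs3 (congrArg Subtype.val hts) h5)
  have hx : orderOf (θ (J t)) = s := by
    have : Fact s.Prime := ⟨hs⟩
    apply orderOf_eq_prime
    · rw [← map_pow, ← map_pow, hts, map_one, map_one]
    · intro h
      exact hJt (hθ (by rw [h, map_one]))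
  refine ⟨θ (J t), hx, ?_⟩
  by_contra hcon
  push Not at hcon
  -- the sum over `T` vanishes
  have hsum : ∀ v : V, ∑ i ∈ Finset.range s, ρ ((θ.comp J) (t ^ i)) v = 0 := by
    intro v
    by_contra h0
    refine hcon _ h0 ?_
    have e : ∀ i, ρ (θ (J t)) (ρ ((θ.comp J) (t ^ i)) v) = ρ ((θ.comp J) (t ^ (i + 1))) v := by
      intro i
      rw [← Module.End.mul_apply, ← map_mul]
      show ρ ((θ.comp J) t * (θ.comp J) (t ^ i)) v = _
      rw [← map_mul, ← pow_succ']
    rw [map_sum, Finset.sum_congr rfl fun i _ => e i]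
    have h5 := Finset.sum_range_succ (fun i => ρ ((θ.comp J) (t ^ i)) v) s
    have h6 := Finset.sum_range_succ' (fun i => ρ ((θ.comp J) (t ^ i)) v) s
    rw [h5] at h6
    simp only [hts, pow_zero] at h6
    exact (add_right_cancel h6).symm
  -- elements of order `s` are not in the Borel subgroup
  have hEs : ∀ x : E, x ^ s = 1 → x = 1 := by
    intro x hx
    have hx0 : x ≠ 0 := by
      rintro rfl
      rw [zero_pow hs.ne_zero] at hx
      exact zero_ne_one hx
    have h5 : x ^ ((q ^ 4) ^ 2 - 1) = 1 := by rw [← hEc]; exact FiniteField.pow_card_sub_one_eq_one x hx0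
    have h6 : orderOf x ∣ 1 := by
      rw [← hcop]
      exact Nat.dvd_gcd (orderOf_dvd_of_pow_eq_one hx) (orderOf_dvd_of_pow_eq_one h5)
    exact orderOf_eq_one_iff.1 (Nat.dvd_one.1 h6)
  have hT : ∀ i ∈ Finset.range s, i ≠ 0 → ∃ v ∈ U σ, ∃ c ∈ C σ, ∃ u ∈ U σ, t ^ i = v * c * nn σ * u := by
    intro i hi hi0
    have hti : t ^ i ≠ 1 := by
      intro h5
      have h6 : orderOf t = s := by
        have : Fact s.Prime := ⟨hs⟩
        exact orderOf_eq_prime hts ht1
      have h7 := orderOf_dvd_of_pow_eq_one h5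
      rw [h6] at h7
      exact absurd (Nat.le_of_dvd (Nat.pos_of_ne_zero hi0) h7) (not_le.2 (Finset.mem_range.1 hi))
    have htis : (t ^ i) ^ s = 1 := by rw [← pow_mul, mul_comm i s, pow_mul, hts, one_pow]
    exact (bruhat hσσ (t ^ i)).resolve_left (not_borel (p := p) hs hsp htis hti hEs)
  -- a generator of the torus
  obtain ⟨b, hb⟩ := IsCyclic.exists_generator (α := Eˣ)
  obtain ⟨c, hc, hcc⟩ := exists_cc (σ := σ) hσσ b.ne_zero
  set β : E := ((b : E) * σ b)⁻¹ with hβ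
  have hβ0 : β ≠ 0 := inv_ne_zero (mul_ne_zero b.ne_zero (by simp))
  set l : E := β ^ (1 + (p ^ n) ^ 2 + (p ^ n) ^ 3) with hl
  have hl1 : l ≠ 1 := by
    intro h5
    have h6 : b ^ ((q ^ 4 + 1) * (1 + q ^ 2 + q ^ 3)) = 1 := by
      apply Units.ext
      rw [Units.val_pow_eq_pow_val, Units.val_one]
      have h7 : β⁻¹ ^ (1 + q ^ 2 + q ^ 3) = 1 := by rw [inv_pow, ← hl, h5, inv_one]
      rw [hβ, inv_inv, hσ, ← hq] at h7
      rw [pow_mul, ← h7]
      congr 1
      rw [pow_succ, mul_comm]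
    have h8 := orderOf_dvd_of_pow_eq_one h6
    rw [orderOf_eq_card_of_forall_mem_zpowers hb, Nat.card_units, Nat.card_eq_fintype_card, hEc] at h8
    have e : (q ^ 4) ^ 2 - 1 = (q ^ 4 + 1) * (q ^ 4 - 1) := by
      rw [← Nat.sq_sub_sq (q ^ 4) 1, one_pow]
    rw [e] at h8
    have h9 := Nat.dvd_of_mul_dvd_mul_left (by (clear * -; positivity)) h8
    have h10 := Nat.le_of_dvd (by (clear * -; positivity)) h9
    have h11 := arith2 hq2
    omega
  -- the elements `r`, `y₁`, `y₂`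
  let r : E → ↥(chevE8.group F) := fun d => θ ⟨rr p n f d, rr_fix f hE8 d⟩
  let z1 : E → ↥(chevE8.group F) := fun d => θ ⟨y1 p n f d, y1_fix f hE8 d⟩
  let z2 : E → ↥(chevE8.group F) := fun d => θ ⟨y2 p n f d, y2_fix f hE8 d⟩
  have hι : (Fintype.card E : K) ≠ 0 := by
    rw [hEc, hq]
    push_cast
    exact pow_ne_zero _ (pow_ne_zero _ (pow_ne_zero _ hpK))
  have hUf : Finite (U σ) := inferInstance
  have hU : (Nat.card (U σ) : K) ≠ 0 := by
    obtain ⟨m, hm⟩ := (isPGroup_U (σ := σ) (p := p)).exists_card_eq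
    rw [hm]
    push_cast
    exact pow_ne_zero _ hpK
  have hres := cross' ρ (θ.comp J) hι r z1 z2 (U σ) (Z σ) (C σ) Z_le_U hU
    (h21 := by
      intro x hxU hxZ
      obtain ⟨t', ht'⟩ := pi_U (k := k) (p := p) (n := n) f h1 hσ hxU
      have ha : x.1.1 0 1 ≠ 0 := by
        intro h0
        apply hxZ
        refine ⟨hxU, h0, ?_⟩
        rw [(U_entries hxU).1, h0, map_zero, neg_zero]
      refine ⟨fun d => x.1.1 0 1 * d, (Equiv.mulLeft₀ _ ha).bijective, fun d => ?_⟩
      have h5 := y2_shift (k := k) (p := p) (n := n) f hE8 (x.1.1 0 1) d t'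
      rw [← ht'] at h5
      show (θ _)⁻¹ * θ (J x) * θ _ = θ (J x) * θ _
      exact mc1 θ (Subtype.ext h5))
    (h22 := by
      intro x hx d
      have h5 := y2_shift_z (k := k) (p := p) (n := n) f hE8 d (f (-x.1.1 0 2))
      rw [← pi_Z f h1 hx] at h5
      show (θ _)⁻¹ * θ (J x) * θ _ = θ (J x)
      exact mc2 θ (Subtype.ext h5))
    (h11 := by
      intro x hx hx1
      have hb0 : -x.1.1 0 2 ≠ 0 := by
        intro h0
        apply hx1
        have h5 := Z_param hx
        rw [neg_eq_zero.1 h0] at h5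
        apply Subtype.ext
        rw [h5]
        apply Subtype.ext
        show 1 + single 0 2 (0 : E) = 1
        simp
      refine ⟨fun d => -x.1.1 0 2 * d, (Equiv.mulLeft₀ _ hb0).bijective, fun d => ?_⟩
      have h6 := h4 x
      rw [pi_Z f h1 hx] at h6
      have h5 := y1_shift (k := k) (p := p) (n := n) f hE8 (-x.1.1 0 2) d h6
      rw [← pi_Z f h1 hx] at h5
      show (θ _)⁻¹ * θ (J x) * θ _ = θ (J x) * θ _
      exact mc1 θ (Subtype.ext h5))
    (hr1 := by
      intro i d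
      show θ _ * θ _ = θ _ * θ _
      exact mc3 θ (Subtype.ext (rr_y1 f i d).eq))
    (hr2 := by
      intro i d
      show θ _ * θ _ = θ _ * θ _
      exact mc3 θ (Subtype.ext (rr_y2 f i d).eq))
    (hrU := by
      intro i x hx
      obtain ⟨t', ht'⟩ := pi_U (k := k) (p := p) (n := n) f h1 hσ hx
      have h5 := rr_w (k := k) (p := p) (n := n) f i (f (x.1.1 0 1)) (f (x.1.1 0 1)) t'
      rw [← ht'] at h5
      show θ _ * θ (J x) = θ (J x) * θ _
      exact mc3 θ (Subtype.ext h5.eq))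
    (hCU := fun c hc u hu => C_U hc hu) (hCC := fun a ha b hb => C_comm ha hb) (nn σ)
    (hnC := fun c hc => nn_C hc) (Finset.range s) (fun i => t ^ i) 0 (Finset.mem_range.2 hs.pos) (pow_zero t) hT hsum
    hc
    (hcr := by
      intro i
      have h5 : ∀ d : E, (J (c⁻¹ * (nn σ * c * (nn σ)⁻¹)) : ↥(chevE8.group k)) * rr p n f d *
          ((J (c⁻¹ * (nn σ * c * (nn σ)⁻¹)) : ↥(chevE8.group k)))⁻¹ = rr p n f (l * d) := by
        intro d
        apply rr_conj f (J (c⁻¹ * (nn σ * c * (nn σ)⁻¹))).2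
        intro d
        rw [hJ, hcc, pi_diag f h1, P4_hh ((map_ne_zero f).2 hβ0), hl, map_mul, map_pow]
      refine ⟨(l - 1)⁻¹ * i, ?_⟩
      have h6 : l * ((l - 1)⁻¹ * i) = (l - 1)⁻¹ * i + i := by
        have h7 : l - 1 ≠ 0 := sub_ne_zero.2 hl1
        have h8 : (l - 1) * ((l - 1)⁻¹ * i) = i := mul_inv_cancel_left₀ h7 i
        linear_combination h8
      have h7 := h5 ((l - 1)⁻¹ * i)
      rw [h6, rr_add] at h7
      show θ (J _) * θ _ * (θ (J _))⁻¹ = θ _ * θ _
      exact mc4 θ (Subtype.ext h7))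
  have hadd : ∀ i j, r (i + j) = r i * r j := by
    intro i j
    show θ _ = θ _ * θ _
    exact (congrArg θ (Subtype.ext (rr_add f i j))).trans (θ.map_mul _ _)
  have htriv := fun i v => trivial_of_ker ρ r hadd hres i v
  have h5 : ρ (r 1) = 1 := LinearMap.ext fun v => htriv 1 v
  have h6 : r 1 = 1 := hρ (by rw [h5, map_one])
  have h7 : (⟨rr p n f 1, rr_fix f hE8 1⟩ : ↥(fixG k p n)) = 1 := hθ (by rw [map_one]; exact h6)
  exact one_ne_zero (rr_ne f (congrArg Subtype.val h7))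

end

end Cfsg.Agent.H992.E8X
end

private theorem dce_0db3351839fe : _root_.True := by
  try have : _root_.True := by simp only [_root_.Cfsg.Agent.H992.E8X.bc.eq_1]
  try have : _root_.True := by simp only [_root_.Cfsg.Agent.H992.E8X.c0.eq_1]
  try have : _root_.True := by simp only [_root_.Cfsg.Agent.H992.E8X.Rd.congr_simp]
  try have : _root_.True := by simp only [_root_.Cfsg.hermForm.eq_1]
  try have : _root_.True := by simp only [_root_.Cfsg.Agent.H992.E8X.Su3.IsU.eq_1]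
  try have : _root_.True := by simp only [_root_.Cfsg.Agent.H992.RkOne.avg.eq_1]
  try have : _root_.True := by simp only [_root_.Cfsg.Agent.H992.E8X.y2.congr_simp]
  try have : _root_.True := by simp only [_root_.Cfsg.Agent.H992.E8X.Su3.IsD.eq_1]
  try have : _root_.True := by simp only [_root_.Cfsg.Agent.H992.E8X.Rd.eq_1]
  try have : _root_.True := by simp only [_root_.Cfsg.Agent.H992.E8X.c0.congr_simp]
  exact _root_.True.intro
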